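import Cfsg.Agent.H15.HSOrbits
import Cfsg.Agent.H14.HSGraphData

/-! Kernel checks for the graph of the Higman-Sims configuration. -/

set_option autoImplicit false

namespace Cfsg.Agent.H14.HSGraph

/-- The relation on the numbers `0`, `1..22`, `23..99`. -/
def relN (u v : ℕ) : Bool :=
  if u = 0 then decide (1 ≤ v ∧ v < 23)
  else if v = 0 then decide (1 ≤ u ∧ u < 23)
  else if u < 23 then !(decide (v < 23)) && (blockMasks.getD (v - 23) 0).testBit (u - 1)
  else if v < 23 then (blockMasks.getD (u - 23) 0).testBit (v - 1)
  else decide (u ≠ v ∧ (blockMasks.getD (u - 23) 0) &&& (blockMasks.getD (v - 23) 0) = 0)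

theorem adjMasks_ok : H15.allBlocks (fun k =>
    decide (H15.dotPP (H15.Data.certC100.pt (k / 100)) (H15.Data.certC100.pt (k % 100)) = 8) ==
      (adjMasks.getD (k / 100) 0).testBit (k % 100)) 10000 = true := by
  decide +kernel

theorem order_ok : H15.allBlocks (fun k =>
    (adjMasks.getD (order.getD (k / 100) 0) 0).testBit (order.getD (k % 100) 0) ==
      relN (k / 100) (k % 100)) 10000 = true := by
  decide +kernel

/-- The number of blocks through three points. -/
def throughThree (a b c : ℕ) : ℕ :=
  blockMasks.countP fun m => m.testBit a && m.testBit b && m.testBit c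

theorem throughThree_ok : ∀ a : Fin 22, ∀ b : Fin 22, ∀ c : Fin 22, a ≠ b → a ≠ c → b ≠ c →
    throughThree a b c = 1 := by
  decide +kernel

theorem blockMasks_length : blockMasks.length = 77 := by decide +kernel

end Cfsg.Agent.H14.HSGraph
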