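import Cfsg.Agent.H14.StabModels
import Cfsg.Prelude.Def_Sporadic
import Cfsg.Agent.H15.Co3Orbits

/-! The Higman–Sims group as a joint stabiliser in `Co0`. -/

set_option autoImplicit false

namespace Cfsg.Agent.H14

theorem bV_eq : H15.bV = vecVL := Subtype.ext H15.vecV_code.symm

theorem bA_eq : H15.bA = v0L := by
  apply Subtype.ext
  show H15.vecOf H15.cA = v0
  funext p; revert p; decide +kernel

theorem stab_bW_bV :
    MulAction.stabilizer Co0 H15.bW ⊓ MulAction.stabilizer Co0 H15.bV =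
      MulAction.stabilizer Co0 vecVL ⊓ MulAction.stabilizer Co0 v0L := by
  rw [← bV_eq, ← bA_eq]
  ext g
  simp only [Subgroup.mem_inf, MulAction.mem_stabilizer_iff]
  constructor
  · rintro ⟨h1, h2⟩
    refine ⟨h2, ?_⟩
    rw [show H15.bA = -H15.bV - H15.bW by rw [H15.bW_eq]; abel, H15.co0_smul_sub, H15.co0_smul_neg,
      h1, h2]
  · rintro ⟨h1, h2⟩
    refine ⟨?_, h1⟩
    rw [H15.bW_eq, H15.co0_smul_sub, H15.co0_smul_neg, h1, h2]

theorem card_hsModel :
    Nat.card ↥(MulAction.stabilizer Co0 vecVL ⊓ MulAction.stabilizer Co0 v0L) = 44352000 := by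
  rw [← bV_eq, ← bA_eq]
  have h := card_stab_mul (MulAction.stabilizer Co0 H15.bV) H15.bA _ H15.orbit_bA.1
  rw [H15.orbit_bA.2.1, card_stab48 H15.bV_norm] at h
  omega

/-- The joint stabiliser of two norm 6 vectors with inner product `-4`. -/
theorem isHS_stab {v w : ↥leechLattice} (hv : sqNorm (v : V) = 48) (hw : sqNorm (w : V) = 48)
    (hvw : dotInt (v : V) (w : V) = -32) :
    IsHS ↥(MulAction.stabilizer Co0 v ⊓ MulAction.stabilizer Co0 w) := by
  obtain ⟨g, h1, h2⟩ := H15.exists_redHS hv hw hvw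
  have e := (stabPairEquiv g h1 h2).trans (MulEquiv.subgroupCongr stab_bW_bV)
  have := isSimpleGroup_hs card_hsModel
  exact ⟨MulEquiv.isSimpleGroup e, by rw [Nat.card_congr e.toEquiv, card_hsModel]⟩

end Cfsg.Agent.H14
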