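import Cfsg.Agent.H15.HSOrbits
import Cfsg.Agent.H14.HSSimple
import Cfsg.Agent.H14.HSGraphChecks
import Cfsg.Agent.H10.Ext4Unique

/-!
The graph of the 100 vectors of the Higman–Sims configuration is the point-block graph of any
S(3, 6, 22); the Higman–Sims group acts on it.
-/

set_option autoImplicit false

namespace Cfsg.Agent.H14.HSGraph

open Finset

/-- Position of a vertex. -/
def code : Option (Fin 22 ⊕ Fin 77) → ℕ
  | none => 0
  | some (Sum.inl a) => a + 1
  | some (Sum.inr b) => b + 23

theorem code_lt (u : Option (Fin 22 ⊕ Fin 77)) : code u < 100 := by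
  rcases u with _ | ⟨a⟩ | ⟨b⟩ <;> simp [code] <;> omega

theorem code_injective : Function.Injective code := by
  rintro (_ | ⟨a⟩ | ⟨b⟩) (_ | ⟨a'⟩ | ⟨b'⟩) h <;> simp [code] at h ⊢ <;> omega

/-- The blocks. -/
def blk (b : Fin 77) : Finset (Fin 22) :=
  univ.filter fun a => (blockMasks.getD b 0).testBit a

/-- The family of blocks. -/
def blocks : Set (Finset (Fin 22)) := Set.range blk

theorem blk_injective : Function.Injective blk := by
  have h : ∀ b c : Fin 77, (∀ a : Fin 22,
      (blockMasks.getD b 0).testBit a = (blockMasks.getD c 0).testBit a) → b = c := by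
    decide +kernel
  intro b c e
  refine h b c fun a => ?_
  have := Finset.ext_iff.1 e a
  simp only [blk, Finset.mem_filter, mem_univ, true_and] at this
  exact Bool.eq_iff_iff.2 this

theorem blk_card : ∀ b : Fin 77, (univ.filter fun a : Fin 22 =>
    (blockMasks.getD b 0).testBit a = true).card = 6 := by
  decide +kernel

theorem steiner : IsSteinerSystem 3 6 blocks := by
  refine ⟨?_, fun s hs => ?_⟩
  · rintro _ ⟨b, rfl⟩
    exact blk_card b
  · obtain ⟨x, y, z, hxy, hxz, hyz, rfl⟩ := Finset.card_eq_three.1 hs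
    have hcount : throughThree x y z =
        ((univ : Finset (Fin 77)).filter fun b : Fin 77 => {x, y, z} ⊆ blk b).card := by
      rw [throughThree, List.countP_eq_length_filter]
      have hmap : blockMasks = (List.finRange 77).map fun b : Fin 77 => blockMasks.getD b 0 := by
        decide +kernel
      conv_lhs => rw [hmap]
      rw [List.filter_map, List.length_map, ← List.toFinset_card_of_nodup
        ((List.nodup_finRange 77).filter _)]
      congr 1
      ext b
      simp [blk, Finset.insert_subset_iff, and_assoc]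
    rw [throughThree_ok x y z hxy hxz hyz] at hcount
    obtain ⟨b, hb⟩ := Finset.card_eq_one.1 hcount.symm
    have hmem : ∀ c, {x, y, z} ⊆ blk c ↔ c = b := fun c => by
      have := Finset.ext_iff.1 hb c
      simpa using this
    refine ⟨blk b, ⟨⟨b, rfl⟩, (hmem b).2 rfl⟩, ?_⟩
    rintro _ ⟨⟨c, rfl⟩, hc⟩
    rw [(hmem c).1 hc]

/-- The numbers as vertices of the point-block graph. -/
noncomputable def vtxEquiv : Option (Fin 22 ⊕ Fin 77) ≃ Option (Fin 22 ⊕ blocks) :=
  Equiv.optionCongr ((Equiv.refl _).sumCongr (Equiv.ofInjective blk blk_injective))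

theorem vtx_none : vtxEquiv none = none := rfl

theorem vtx_inl (a : Fin 22) : vtxEquiv (some (Sum.inl a)) = some (Sum.inl a) := rfl

theorem vtx_inr (b : Fin 77) :
    vtxEquiv (some (Sum.inr b)) = some (Sum.inr ⟨blk b, b, rfl⟩) := rfl

theorem relN_adj (u v : Option (Fin 22 ⊕ Fin 77)) :
    relN (code u) (code v) = true ↔
      (pointBlockGraph blocks).Adj (vtxEquiv u) (vtxEquiv v) := by
  have hb : ∀ (b : Fin 77) (a : Fin 22),
      (blockMasks.getD b 0).testBit a = true ↔ a ∈ blk b := fun b a => by simp [blk]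
  have hd : ∀ b c : Fin 77, blockMasks.getD b 0 &&& blockMasks.getD c 0 = 0 ↔
      Disjoint (blk b) (blk c) := by
    have hlt : ∀ b : Fin 77, blockMasks.getD b 0 < 2 ^ 22 := by decide +kernel
    intro b c
    rw [Finset.disjoint_left]
    constructor
    · intro h a ha hc
      have := congrArg (fun n => n.testBit a) h
      simp only [Nat.testBit_and, (hb b a).2 ha, (hb c a).2 hc, Nat.zero_testBit] at this
      exact absurd this (by decide)
    · intro h
      refine Nat.eq_of_testBit_eq fun i => ?_
      rw [Nat.testBit_and, Nat.zero_testBit, Bool.and_eq_false_iff]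
      by_cases hi : i < 22
      · by_cases hbi : (blockMasks.getD b 0).testBit i = true
        · right
          by_contra hne
          exact h ((hb b ⟨i, hi⟩).1 hbi) ((hb c ⟨i, hi⟩).1 (by simpa using hne))
        · left; simpa using hbi
      · left
        exact Nat.testBit_lt_two_pow ((hlt b).trans_le (Nat.pow_le_pow_right (by norm_num) (by omega)))
  simp only [pointBlockGraph, SimpleGraph.fromRel_adj, ne_eq, EmbeddingLike.apply_eq_iff_eq]
  simp only [List.getD_eq_getElem?_getD] at hb hd
  rcases u with _ | ⟨a⟩ | ⟨b⟩ <;> rcases v with _ | ⟨a'⟩ | ⟨b'⟩ <;>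
    simp only [vtx_none, vtx_inl, vtx_inr]
  · simp [relN, code]
  · simp [relN, code, pointBlockRel]; omega
  · simp [relN, code, pointBlockRel]
  · simp [relN, code, pointBlockRel]; omega
  · have h1 : (a : ℕ) + 1 < 23 := by omega
    have h2 : (a' : ℕ) + 1 < 23 := by omega
    simp [relN, code, pointBlockRel, h1, h2]
  · have h1 : (a : ℕ) + 1 < 23 := by omega
    simp [relN, code, pointBlockRel, h1, hb]
  · simp [relN, code, pointBlockRel]
  · have h1 : (a' : ℕ) + 1 < 23 := by omega
    simp [relN, code, pointBlockRel, h1, hb]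
  · simp [relN, code, pointBlockRel, hd, Fin.val_inj, disjoint_comm]

/-- The graph on the 100 vectors. -/
def hsGraph : SimpleGraph ↥(H15.set100 H15.bV H15.bW) where
  Adj x y := dotInt ((x : leechLattice) : V) ((y : leechLattice) : V) = 8
  symm := ⟨fun x y h => by rw [dotInt_comm]; exact h⟩
  loopless := ⟨fun x h => by
    rw [dotInt_self] at h
    have := x.2.1
    omega⟩

theorem pt_exists (i : Fin 100) :
    ∃ x : ↥(H15.set100 H15.bV H15.bW),
      ((x : leechLattice) : V) = H15.vecOf (H15.Data.certC100.pt i) := by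
  classical
  obtain ⟨hsub, hcard, hcov⟩ := H15.orbit_100
  by_contra hno
  push Not at hno
  have hpts : ∀ x ∈ H15.set100 H15.bV H15.bW, ∃ j : Fin 100, j ≠ i ∧
      (x : V) = H15.vecOf (H15.Data.certC100.pt j) := fun x hx => by
    obtain ⟨j, hj, e⟩ := hcov x hx
    exact ⟨⟨j, hj⟩, fun h => hno ⟨x, hx⟩ (h ▸ e), e⟩
  choose f hf hfe using hpts
  have h : (H15.set100 H15.bV H15.bW).ncard ≤ ({j : Fin 100 | j ≠ i} : Set (Fin 100)).ncard := by
    refine Set.ncard_le_ncard_of_injOn
      (fun x => if h : x ∈ H15.set100 H15.bV H15.bW then f x h else i) ?_ ?_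
    · intro x hx
      simp only [dif_pos hx]
      exact hf x hx
    · intro x hx y hy e
      simp only [dif_pos hx, dif_pos hy] at e
      have h1 := hfe x hx
      rw [e, ← hfe y hy] at h1
      exact Subtype.ext h1
  rw [hcard, show {j : Fin 100 | j ≠ i} = {i}ᶜ from rfl, Set.ncard_compl, Set.ncard_singleton,
    Nat.card_fin] at h
  omega

theorem order_lt : ∀ k : Fin 100, order.getD k 0 < 100 := by decide +kernel

/-- The vector at a vertex. -/
noncomputable def vec (u : Option (Fin 22 ⊕ Fin 77)) : ↥(H15.set100 H15.bV H15.bW) :=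
  (pt_exists ⟨order.getD (code u) 0, order_lt ⟨code u, code_lt u⟩⟩).choose

theorem vec_val (u : Option (Fin 22 ⊕ Fin 77)) :
    ((vec u : leechLattice) : V) = H15.vecOf (H15.Data.certC100.pt (order.getD (code u) 0)) :=
  (pt_exists ⟨order.getD (code u) 0, order_lt ⟨code u, code_lt u⟩⟩).choose_spec

theorem vec_bijective : Function.Bijective vec := by
  have hinj : Function.Injective vec := by
    intro u v e
    have h := congrArg (fun x : ↥(H15.set100 H15.bV H15.bW) => ((x : leechLattice) : V)) e
    simp only [vec_val] at h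
    have h2 := H15.OrbitCert.pt_injOn H15.Data.certC100_ok (order_lt ⟨_, code_lt u⟩)
      (order_lt ⟨_, code_lt v⟩)
      (H15.vecOf_inj (H15.OrbitCert.pt_lt _ _) (H15.OrbitCert.pt_lt _ _) h)
    have key : ∀ a b : Fin 100, order.getD a 0 = order.getD b 0 → a = b := by decide +kernel
    exact code_injective (Fin.val_inj.2 (key ⟨_, code_lt u⟩ ⟨_, code_lt v⟩ h2))
  have : Finite ↥(H15.set100 H15.bV H15.bW) :=
    Nat.finite_of_card_ne_zero (by rw [Nat.card_coe_set_eq, H15.orbit_100.2.1]; norm_num)
  refine hinj.bijective_of_nat_card_le ?_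
  rw [Nat.card_coe_set_eq, H15.orbit_100.2.1]
  simp [Nat.card_eq_fintype_card]

theorem vec_adj (u v : Option (Fin 22 ⊕ Fin 77)) :
    hsGraph.Adj (vec u) (vec v) ↔ relN (code u) (code v) = true := by
  show dotInt ((vec u : leechLattice) : V) ((vec v : leechLattice) : V) = 8 ↔ _
  rw [vec_val, vec_val, H15.dot_vecOf]
  have hu := code_lt u
  have hv := code_lt v
  have ou := order_lt ⟨_, hu⟩
  have ov := order_lt ⟨_, hv⟩
  have h1 := H15.allBlocks_eq_true adjMasks_ok
    (i := order.getD (code u) 0 * 100 + order.getD (code v) 0) (by simp at ou ov ⊢; omega)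
  have h2 := H15.allBlocks_eq_true order_ok (i := code u * 100 + code v) (by omega)
  rw [show (order.getD (code u) 0 * 100 + order.getD (code v) 0) / 100 = order.getD (code u) 0 by
      simp at ou ov ⊢; omega,
    show (order.getD (code u) 0 * 100 + order.getD (code v) 0) % 100 = order.getD (code v) 0 by
      simp at ou ov ⊢; omega] at h1
  rw [show (code u * 100 + code v) / 100 = code u by omega,
    show (code u * 100 + code v) % 100 = code v by omega] at h2
  simp only [beq_iff_eq] at h1 h2
  rw [← h2, ← h1, decide_eq_true_eq]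

/-- The graph of the configuration is a point-block graph. -/
noncomputable def hsIso : pointBlockGraph blocks ≃g hsGraph where
  toEquiv := vtxEquiv.symm.trans (Equiv.ofBijective vec vec_bijective)
  map_rel_iff' := by
    intro p q
    obtain ⟨u, rfl⟩ := vtxEquiv.surjective p
    obtain ⟨v, rfl⟩ := vtxEquiv.surjective q
    simp only [Equiv.trans_apply, Equiv.symm_apply_apply, Equiv.ofBijective_apply]
    rw [vec_adj, relN_adj]

section Transport

variable {α β : Type*} [DecidableEq β] {B : Set (Finset α)} {B' : Set (Finset β)}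

/-- An isomorphism of set systems gives one of point-block graphs. -/
theorem nonempty_graph_iso (h : SetSystemIso B B') :
    Nonempty (pointBlockGraph B ≃g pointBlockGraph B') := by
  obtain ⟨e, he⟩ := h
  let eb : B ≃ B' := (Equiv.Set.image (fun b => b.image e) B
    (Finset.image_injective e.injective)).trans (Equiv.setCongr he)
  have heb : ∀ b : B, (eb b : Finset β) = (b : Finset α).image e := fun b => rfl
  refine ⟨⟨Equiv.optionCongr (e.sumCongr eb), ?_⟩⟩
  intro x y
  simp only [pointBlockGraph, SimpleGraph.fromRel_adj, ne_eq, EmbeddingLike.apply_eq_iff_eq]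
  rcases x with _ | ⟨a⟩ | ⟨b⟩ <;> rcases y with _ | ⟨a'⟩ | ⟨b'⟩ <;>
    simp [pointBlockRel, heb, Finset.disjoint_image e.injective]

end Transport

/-- The configuration group. -/
def hsGrp : Subgroup Co0 :=
  MulAction.stabilizer Co0 H15.bV ⊓ MulAction.stabilizer Co0 H15.bA

theorem smul_mem {g : Co0} (hg : g ∈ hsGrp) {x : leechLattice}
    (hx : x ∈ H15.set100 H15.bV H15.bW) : g • x ∈ H15.set100 H15.bV H15.bW := by
  have h := (H15.smul_mem_set100 g).2 hx
  rwa [MulAction.mem_stabilizer_iff.1 hg.1, H15.fixes_bW hg] at h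

/-- An element of the configuration group as a graph automorphism. -/
def hsAutOf (g : hsGrp) : hsGraph ≃g hsGraph where
  toFun x := ⟨(g : Co0) • (x : leechLattice), smul_mem g.2 x.2⟩
  invFun x := ⟨(g : Co0)⁻¹ • (x : leechLattice), smul_mem (inv_mem g.2) x.2⟩
  left_inv x := Subtype.ext (inv_smul_smul _ _)
  right_inv x := Subtype.ext (smul_inv_smul _ _)
  map_rel_iff' := by
    intro x y
    show dotInt ((g : Co0) • (x : leechLattice) : leechLattice).1
        ((g : Co0) • (y : leechLattice) : leechLattice).1 = 8 ↔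
      dotInt (x : leechLattice).1 (y : leechLattice).1 = 8
    rw [H15.dot_smul]

/-- The action on the graph. -/
def hsHom : hsGrp →* (hsGraph ≃g hsGraph) where
  toFun := hsAutOf
  map_one' := RelIso.ext fun x => Subtype.ext (one_smul Co0 _)
  map_mul' g h := RelIso.ext fun x => Subtype.ext (mul_smul (g : Co0) (h : Co0) _)

theorem hsHom_transitive (x y : ↥(H15.set100 H15.bV H15.bW)) : ∃ g, hsHom g x = y := by
  obtain ⟨k, hk, e⟩ := H15.exists_smul_eq_of_orbit (K := hsGrp) (a := H15.b100)
    (x := (x : leechLattice)) (y := (y : leechLattice))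
    (by rw [hsGrp, H15.orbit_100.1]; exact x.2) (by rw [hsGrp, H15.orbit_100.1]; exact y.2)
  exact ⟨⟨k, hk⟩, Subtype.ext e⟩

theorem hsGrp_simple : IsSimpleGroup hsGrp := by
  have := isSimpleGroup_hs card_hsModel
  exact MulEquiv.isSimpleGroup (MulEquiv.subgroupCongr (by rw [hsGrp, bV_eq, bA_eq]))

theorem card_hsGrp : Nat.card hsGrp = 44352000 := by
  rw [← card_hsModel, hsGrp, bV_eq, bA_eq]

/-- Conjugation by a graph isomorphism. -/
def conjHom {X Y : Type*} {G : SimpleGraph X} {H : SimpleGraph Y} (Φ : G ≃g H) :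
    (H ≃g H) →* (G ≃g G) where
  toFun f := (Φ.trans f).trans Φ.symm
  map_one' := RelIso.ext fun x => Φ.symm_apply_apply x
  map_mul' f f' := RelIso.ext fun x => by
    show Φ.symm (f (f' (Φ x))) = Φ.symm (f (Φ (Φ.symm (f' (Φ x)))))
    rw [Φ.apply_symm_apply]

section Main

variable {α : Type*} [Fintype α] [DecidableEq α] (hα : Fintype.card α = 22) {B : Set (Finset α)}
  (hB : IsSteinerSystem 3 6 B)
include hα hB

theorem nonempty_iso : Nonempty (pointBlockGraph B ≃g hsGraph) := by
  have h : SetSystemIso B blocks := H10.ext_iso (m := 1) (by norm_num) (by norm_num) hα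
    (Fintype.card_fin 22) (H10.isExt_of_22 hα hB) (H10.isExt_of_22 (Fintype.card_fin 22) steiner)
  obtain ⟨i⟩ := nonempty_graph_iso h
  exact ⟨i.trans hsIso⟩

/-- The Higman–Sims group acting on the point-block graph. -/
theorem exists_hom : ∃ φ : hsGrp →* (pointBlockGraph B ≃g pointBlockGraph B),
    Function.Injective φ ∧ ∀ x y, ∃ g, φ g x = y := by
  obtain ⟨Φ⟩ := nonempty_iso hα hB
  have htr : ∀ x y, ∃ g, ((conjHom Φ).comp hsHom) g x = y := by
    intro x y
    obtain ⟨g, hg⟩ := hsHom_transitive (Φ x) (Φ y)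
    refine ⟨g, ?_⟩
    show Φ.symm (hsHom g (Φ x)) = y
    rw [hg, Φ.symm_apply_apply]
  refine ⟨(conjHom Φ).comp hsHom, ?_, htr⟩
  rw [← MonoidHom.ker_eq_bot_iff]
  refine (hsGrp_simple.eq_bot_or_eq_top_of_normal _ inferInstance).resolve_right fun htop => ?_
  obtain ⟨a⟩ : Nonempty α := Fintype.card_pos_iff.1 (by omega)
  obtain ⟨g, hg⟩ := htr none (some (Sum.inl a))
  have h1 : ((conjHom Φ).comp hsHom) g = 1 := by
    rw [← MonoidHom.mem_ker, htop]; exact Subgroup.mem_top g
  rw [h1] at hg
  cases hg

end Main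

end Cfsg.Agent.H14.HSGraph
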