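import Cfsg.Agent.H14.HSGraph
import Cfsg.Prelude.Def_Sporadic

/-! The automorphism group of the point-block graph of an S(3, 6, 22). -/

set_option autoImplicit false

namespace Cfsg.Agent.H14.HSGraph

open Finset
open scoped Pointwise

variable {α : Type*} [Fintype α] [DecidableEq α] {B : Set (Finset α)}

theorem exists_hs_subgroup (hα : Fintype.card α = 22) (hB : IsSteinerSystem 3 6 B) :
    ∃ H : Subgroup (pointBlockGraph B ≃g pointBlockGraph B), IsHS H := by
  obtain ⟨φ, hφ, -⟩ := exists_hom hα hB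
  let e := MonoidHom.ofInjective hφ
  have := hsGrp_simple
  exact ⟨φ.range, MulEquiv.isSimpleGroup e.symm, by rw [← Nat.card_congr e.toEquiv, card_hsGrp]⟩

theorem smul_mem_blocks (σ : setSystemAut B) {b : Finset α} (hb : b ∈ B) : σ.1 • b ∈ B := by
  have h : σ.1 • B = B := σ.2
  exact h.subset (Set.smul_mem_smul_set hb)

/-- The permutation of the blocks. -/
def blockPerm (σ : setSystemAut B) : Equiv.Perm B where
  toFun b := ⟨σ.1 • (b : Finset α), smul_mem_blocks σ b.2⟩
  invFun b := ⟨(σ⁻¹ : setSystemAut B).1 • (b : Finset α), smul_mem_blocks σ⁻¹ b.2⟩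
  left_inv b := Subtype.ext (inv_smul_smul σ.1 _)
  right_inv b := Subtype.ext (smul_inv_smul σ.1 _)

/-- The graph automorphism of a set-system automorphism. -/
def liftAut (σ : setSystemAut B) : pointBlockGraph B ≃g pointBlockGraph B where
  toEquiv := Equiv.optionCongr (σ.1.sumCongr (blockPerm σ))
  map_rel_iff' := by
    intro x y
    simp only [pointBlockGraph, SimpleGraph.fromRel_adj, ne_eq, EmbeddingLike.apply_eq_iff_eq]
    have hd : ∀ b c : B, Disjoint (blockPerm σ b : Finset α) (blockPerm σ c : Finset α) ↔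
        Disjoint (b : Finset α) (c : Finset α) := fun b c => by
      show Disjoint (σ.1 • (b : Finset α)) (σ.1 • (c : Finset α)) ↔ _
      rw [Finset.smul_finset_def, Finset.smul_finset_def,
        Finset.disjoint_image (MulAction.injective σ.1)]
    have hm : ∀ (a : α) (b : B), σ.1 a ∈ (blockPerm σ b : Finset α) ↔ a ∈ (b : Finset α) :=
      fun a b => Finset.smul_mem_smul_finset_iff σ.1
    rcases x with _ | ⟨a⟩ | ⟨b⟩ <;> rcases y with _ | ⟨a'⟩ | ⟨b'⟩ <;>
      simp [pointBlockRel, hd, hm]

theorem adj_none_iff (v : Option (α ⊕ B)) :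
    (pointBlockGraph B).Adj none v ↔ ∃ a, v = some (Sum.inl a) := by
  rcases v with _ | ⟨a⟩ | ⟨b⟩ <;> simp [pointBlockGraph, pointBlockRel]

theorem adj_inl_inr (a : α) (b : B) :
    (pointBlockGraph B).Adj (some (Sum.inl a)) (some (Sum.inr b)) ↔ a ∈ (b : Finset α) := by
  simp [pointBlockGraph, pointBlockRel]

theorem exists_lift (f : pointBlockGraph B ≃g pointBlockGraph B) (hf : f none = none) :
    ∃ σ, liftAut σ = f := by
  have hpt : ∀ (g : pointBlockGraph B ≃g pointBlockGraph B), g none = none →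
      ∀ a, ∃ a', g (some (Sum.inl a)) = some (Sum.inl a') := by
    intro g hg a
    rw [← adj_none_iff, ← hg, g.map_rel_iff]
    exact (adj_none_iff _).2 ⟨a, rfl⟩
  have hfs : f.symm none = none := (congrArg f.symm hf).symm.trans (f.symm_apply_apply none)
  choose s hs using hpt f hf
  choose t ht using hpt f.symm hfs
  have hts : ∀ a, t (s a) = a := fun a => by
    have h := ht (s a)
    rw [← hs, f.symm_apply_apply] at h
    exact (Sum.inl.inj (Option.some.inj h)).symm
  have hst : ∀ a, s (t a) = a := fun a => by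
    have h := hs (t a)
    rw [← ht, f.apply_symm_apply] at h
    exact (Sum.inl.inj (Option.some.inj h)).symm
  have hblk : ∀ b : B, ∃ b' : B, f (some (Sum.inr b)) = some (Sum.inr b') ∧
      (b' : Finset α) = (b : Finset α).image s := by
    intro b
    rcases hfb : f (some (Sum.inr b)) with _ | ⟨a⟩ | ⟨b'⟩
    · have h := congrArg f.symm hfb
      rw [f.symm_apply_apply, hfs] at h
      cases h
    · have h := congrArg f.symm hfb
      rw [f.symm_apply_apply, ht] at h
      cases h
    · refine ⟨b', rfl, Finset.ext fun a => ?_⟩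
      obtain ⟨a, rfl⟩ : ∃ c, s c = a := ⟨t a, hst a⟩
      rw [← adj_inl_inr, ← hs, ← hfb, f.map_rel_iff, adj_inl_inr,
        Function.LeftInverse.injective hts |>.mem_finset_image]
  let σ : Equiv.Perm α := ⟨s, t, hts, hst⟩
  have hmem : σ ∈ setSystemAut B := by
    refine MulAction.mem_stabilizer_iff.2 (Set.eq_of_subset_of_ncard_le ?_ ?_ (Set.toFinite _))
    · rintro _ ⟨b, hb, rfl⟩
      obtain ⟨b', -, e⟩ := hblk ⟨b, hb⟩
      show σ • b ∈ B
      rw [Finset.smul_finset_def]
      exact e ▸ b'.2
    · exact (Set.ncard_smul_set σ B).ge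
  refine ⟨⟨σ, hmem⟩, RelIso.ext fun x => ?_⟩
  rcases x with _ | ⟨a⟩ | ⟨b⟩
  · exact hf.symm
  · exact (hs a).symm
  · obtain ⟨b', h1, h2⟩ := hblk b
    rw [h1]
    show some (Sum.inr (blockPerm ⟨σ, hmem⟩ b)) = _
    refine congrArg some (congrArg Sum.inr (Subtype.ext ?_))
    rw [h2]
    exact Finset.smul_finset_def

theorem card_aut (hα : Fintype.card α = 22) (hB : IsSteinerSystem 3 6 B) :
    Nat.card (pointBlockGraph B ≃g pointBlockGraph B) =
      100 * Nat.card (setSystemAut B) := by
  obtain ⟨φ, -, htr⟩ := exists_hom hα hB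
  obtain ⟨i⟩ := nonempty_iso hα hB
  set A := pointBlockGraph B ≃g pointBlockGraph B
  let S := {f : A // f none = none}
  have hV : Nat.card (Option (α ⊕ B)) = 100 := by
    rw [Nat.card_congr i.toEquiv, Nat.card_coe_set_eq, H15.orbit_100.2.1]
  choose g hg using fun v => htr none v
  let e : Option (α ⊕ B) × S ≃ A :=
    { toFun := fun p => φ (g p.1) * p.2.1
      invFun := fun f => ⟨f none, ⟨(φ (g (f none)))⁻¹ * f, by
        show (φ (g (f none))).symm (f none) = none
        conv_lhs => arg 2; rw [← hg (f none)]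
        exact (φ (g (f none))).symm_apply_apply none⟩⟩
      left_inv := fun p => by
        have h : (φ (g p.1) * p.2.1) none = p.1 := by
          show φ (g p.1) (p.2.1 none) = p.1
          rw [p.2.2, hg]
        refine Prod.ext h (Subtype.ext ?_)
        show (φ (g ((φ (g p.1) * p.2.1) none)))⁻¹ * (φ (g p.1) * p.2.1) = p.2.1
        rw [h, inv_mul_cancel_left]
      right_inv := fun f => mul_inv_cancel_left _ _ }
  have hbij : Function.Bijective (fun σ : setSystemAut B => (⟨liftAut σ, rfl⟩ : S)) := by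
    refine ⟨fun σ τ h => ?_, fun f => ?_⟩
    · have h' := congrArg Subtype.val h
      refine Subtype.ext (Equiv.ext fun a => ?_)
      have := congrArg (fun f : A => f (some (Sum.inl a))) h'
      exact Sum.inl.inj (Option.some.inj this)
    · obtain ⟨σ, hσ⟩ := exists_lift f.1 f.2
      exact ⟨σ, Subtype.ext hσ⟩
  rw [← Nat.card_congr e, Nat.card_prod, hV, Nat.card_eq_of_bijective _ hbij]

end Cfsg.Agent.H14.HSGraph
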