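import Cfsg.Agent.H14.Design

/-! The code is generated by the octads. -/

namespace Cfsg.Agent.H14

open Finset

theorem one_mem_of_octads (A : AddSubgroup (GolayPt → ZMod 2))
    (hA : ∀ O ∈ octads, ind O ∈ A) : (1 : GolayPt → ZMod 2) ∈ A := by
  obtain ⟨T, hT⟩ := exists_subset_card_eq (s := (univ : Finset GolayPt)) (n := 4) (by simp)
  obtain ⟨S, -⟩ := exists_sextet T hT.2
  have key : ∀ j k, j ≠ k → (fun i => (if S.lab i = j then (1 : ZMod 2) else 0) +
      (if S.lab i = k then 1 else 0)) ∈ A := by
    intro j k hjk
    let O := univ.filter fun i => S.lab i = j ∨ S.lab i = k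
    have e : ind O = fun i => (if S.lab i = j then (1 : ZMod 2) else 0) +
        (if S.lab i = k then 1 else 0) := by
      ext i
      by_cases h : S.lab i = j
      · simp [O, h, hjk]
      · by_cases h' : S.lab i = k <;> simp [O, h, h', Ne.symm hjk]
    have hO : O ∈ octads := by
      refine ⟨(mem_supports_iff O).2 (e ▸ S.col_mem j k), ?_⟩
      rw [show O = (univ.filter fun i => S.lab i = j) ∪ univ.filter (fun i => S.lab i = k) from
        filter_or _ _ _, card_union_of_disjoint, S.card_fib, S.card_fib]
      rw [Finset.disjoint_filter]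
      exact fun i _ h h' => hjk (h.symm.trans h')
    rw [← e]; exact hA _ hO
  have h := add_mem (add_mem (key 0 1 (by decide)) (key 2 3 (by decide))) (key 4 5 (by decide))
  convert h using 1
  ext i
  simp only [Pi.one_apply, Pi.add_apply]
  generalize S.lab i = t
  fin_cases t <;> simp

/-- The code is generated by the octads. -/
theorem code_mem_of_octads (A : AddSubgroup (GolayPt → ZMod 2)) (hA : ∀ O ∈ octads, ind O ∈ A)
    {c : GolayPt → ZMod 2} (hc : c ∈ golayCode) : c ∈ A := by
  have h8 : ∀ d, d ∈ golayCode → hammingNorm d = 8 → d ∈ A := fun d hd hn => by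
    rw [← ind_support₂ d]; exact hA _ ⟨⟨d, hd, rfl⟩, hn⟩
  rcases golay_weight c hc with h | h | h | h | h
  · rw [hammingNorm_eq_zero.1 h]; exact zero_mem _
  · exact h8 c hc h
  · -- a dodecad is the sum of two octads
    let D := support₂ c
    have hD : D.card = 12 := h
    obtain ⟨U, hUD, hU⟩ := exists_subset_card_eq (show 5 ≤ D.card by omega)
    obtain ⟨O, hO, hUO⟩ := exists_octad U (by omega)
    have hadd := add_mem hc (octad_ind_mem hO)
    have hsupp : support₂ (c + ind O) = (D \ O) ∪ (O \ D) := by
      rw [support₂_eq_iff]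
      intro i
      have hcD : i ∈ D ↔ c i = 1 := by
        have hz : ∀ z : ZMod 2, z ≠ 0 ↔ z = 1 := by decide
        simp [D, support₂, hz]
      have hz : ∀ z : ZMod 2, z = 0 ∨ z = 1 := by decide
      by_cases hiO : i ∈ O <;> rcases hz (c i) with e | e <;> simp [hiO, e, hcD] <;> decide
    have hcard : hammingNorm (c + ind O) = D.card + 8 - 2 * (D ∩ O).card := by
      show (support₂ (c + ind O)).card = _
      rw [hsupp, card_union_of_disjoint disjoint_sdiff_sdiff, card_sdiff, card_sdiff,
        octad_card hO, inter_comm O D]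
      have := card_le_card (inter_subset_left : D ∩ O ⊆ D)
      have := card_le_card (inter_subset_right : D ∩ O ⊆ O)
      have := octad_card hO
      omega
    have h5 : 5 ≤ (D ∩ O).card := hU ▸ card_le_card (subset_inter hUD hUO)
    have h8' : (D ∩ O).card ≤ 8 := octad_card hO ▸ card_le_card inter_subset_right
    have := golay_weight _ hadd
    have := h8 _ hadd (by omega)
    have := add_mem this (hA _ hO)
    have e : c + ind O + ind O = c := by
      ext i; simp only [Pi.add_apply, add_assoc]
      rw [show ∀ z : ZMod 2, z + z = 0 by decide, add_zero]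
    rwa [e] at this
  · have hw : hammingNorm (c + 1) = 8 := by
      have hz : ∀ z : ZMod 2, z + 1 ≠ 0 ↔ ¬ z ≠ 0 := by decide
      have h2 := card_filter_add_card_filter_not (s := (univ : Finset GolayPt)) (fun i => c i ≠ 0)
      have h24 : (univ : Finset GolayPt).card = 24 := by simp
      have : hammingNorm (c + 1) = (univ.filter fun i => ¬ c i ≠ 0).card := by
        unfold hammingNorm; congr 1; ext i; simp [hz]
      have : hammingNorm c = (univ.filter fun i => c i ≠ 0).card := rfl
      omega
    have := add_mem (h8 _ (add_mem hc one_mem_golayCode) hw) (one_mem_of_octads A hA)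
    have e : c + 1 + 1 = c := by
      ext i; simp only [Pi.add_apply, add_assoc, Pi.one_apply]
      rw [show (1 : ZMod 2) + 1 = 0 by decide, add_zero]
    rwa [e] at this
  · have : c = 1 := by
      ext i
      have hz : ∀ z : ZMod 2, z ≠ 0 → z = 1 := by decide
      refine hz _ fun e => ?_
      have hlt : hammingNorm c < (univ : Finset GolayPt).card :=
        card_lt_card (filter_ssubset.2 ⟨i, mem_univ _, by simp [e]⟩)
      simp at hlt; omega
    rw [this]; exact (one_mem_of_octads A hA)

end Cfsg.Agent.H14
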