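import Cfsg.Agent.H14.CrossMax
import Cfsg.Agent.H14.CodeGen
import Cfsg.Agent.H14.Co0Order
import Cfsg.Agent.H11.M24Simple

/-! Simplicity of `Co0` modulo its centre. -/

namespace Cfsg.Agent.H14

open Finset
open scoped Pointwise

theorem signAut_mul {c d : GolayPt → ZMod 2} (hc : c ∈ golayCode) (hd : d ∈ golayCode) :
    signAut c hc * signAut d hd = signAut (c + d) (add_mem hc hd) :=
  act_eq_of_forall fun x hx => by
    rw [mul_act, act_signAut hd hx, act_signAut hc (hx.signFun hd), act_signAut _ hx]
    ext i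
    have hz : ∀ z : ZMod 2, z = 0 ∨ z = 1 := by decide
    rcases hz (c i) with a | a <;> rcases hz (d i) with b | b <;> simp [signFun, a, b] <;>
      exact fun h => absurd rfl h

theorem signAut_zero : signAut 0 (zero_mem _) = 1 := act_eq_of_forall fun x hx => by
  rw [act_signAut _ hx, one_act]; ext i; simp [signFun]

theorem signAut_inv {c : GolayPt → ZMod 2} (hc : c ∈ golayCode) :
    (signAut c hc)⁻¹ = signAut c hc :=
  inv_eq_of_mul_eq_one_right (act_eq_of_forall fun x hx => by
    rw [mul_act, act_signAut hc hx, act_signAut hc (hx.signFun hc), signFun_signFun, one_act])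

/-- The group of sign changes. -/
def signGroup : Subgroup Co0 where
  carrier := {g | ∃ c hc, g = signAut c hc}
  one_mem' := ⟨0, zero_mem _, signAut_zero.symm⟩
  mul_mem' := by
    rintro _ _ ⟨c, hc, rfl⟩ ⟨d, hd, rfl⟩
    exact ⟨c + d, add_mem hc hd, signAut_mul hc hd⟩
  inv_mem' := by
    rintro _ ⟨c, hc, rfl⟩
    exact ⟨c, hc, signAut_inv hc⟩

theorem signAut_mem_signGroup {c : GolayPt → ZMod 2} (hc : c ∈ golayCode) :
    signAut c hc ∈ signGroup := ⟨c, hc, rfl⟩

theorem signGroup_comm {a b : Co0} (ha : a ∈ signGroup) (hb : b ∈ signGroup) : a * b = b * a := by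
  obtain ⟨c, hc, rfl⟩ := ha
  obtain ⟨d, hd, rfl⟩ := hb
  rw [signAut_mul, signAut_mul]
  simp only [add_comm c d]

theorem permAut_conj_signAut {σ : Equiv.Perm GolayPt} (hσ : σ ∈ M24) {c : GolayPt → ZMod 2}
    (hc : c ∈ golayCode) :
    permAut σ hσ * signAut c hc * (permAut σ hσ)⁻¹ =
      signAut (fun i => c (σ.symm i)) (((mem_M24_iff σ).1 hσ c).1 hc) := by
  rw [mul_inv_eq_iff_eq_mul]
  refine act_eq_of_forall fun x hx => ?_
  rw [mul_act, mul_act, act_signAut hc hx, act_permAut hσ (hx.signFun hc), act_permAut hσ hx,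
    act_signAut _ (hx.permFun hσ)]
  ext i; simp [signFun, permFun]

theorem monoAut_conj_mem {k : Co0} (hk : k ∈ crossStab) {e : Co0} (he : e ∈ signGroup) :
    k * e * k⁻¹ ∈ signGroup := by
  obtain ⟨σ, hσ, d, hd, rfl⟩ := exists_mono hk
  obtain ⟨c, hc, rfl⟩ := he
  have h : monoAut σ hσ d hd * signAut c hc * (monoAut σ hσ d hd)⁻¹ =
      signAut d hd * (permAut σ hσ * signAut c hc * (permAut σ hσ)⁻¹) * (signAut d hd)⁻¹ := by
    simp only [monoAut]; group
  rw [h, permAut_conj_signAut]
  exact mul_mem (mul_mem (signAut_mem_signGroup hd) (signAut_mem_signGroup _))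
    (inv_mem (signAut_mem_signGroup hd))

theorem xiAut_inv (S : Sextet) (n : Fin 6) : (S.xiAut n)⁻¹ = S.xiAut n :=
  inv_eq_of_mul_eq_one_right (act_eq_of_forall fun x hx => by
    rw [mul_act, act_xiAut S n hx, act_xiAut S n (S.isLeech_xiFun hx n), S.xiFun_xiFun hx,
      one_act])

/-- The image of `8 e_p` under a sextet map that does not negate its tetrad. -/
theorem xiFun_eight (S : Sextet) {n : Fin 6} {p : GolayPt} (h : S.lab p ≠ n) (i : GolayPt) :
    S.xiFun n (eight p) i = if S.lab i = S.lab p then (if i = p then 4 else -4) else 0 := by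
  have hsum : ∀ t, S.fsum (eight p) t = if t = S.lab p then 8 else 0 := fun t => by
    simp only [Sextet.fsum, eight, Finset.sum_pi_single', Finset.mem_filter, mem_univ, true_and,
      eq_comm (a := S.lab p)]
  unfold Sextet.xiFun
  by_cases e : S.lab i = S.lab p
  · rw [e, hsum, if_pos rfl, if_pos rfl, if_neg h]
    by_cases e' : i = p <;> simp [eight, e']
  · have : i ≠ p := fun e' => e (e' ▸ rfl)
    rw [hsum, if_neg e, if_neg e]
    simp [eight, this]

theorem xiFun_eight_ne_zero (S : Sextet) (n : Fin 6) (p i : GolayPt) :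
    S.xiFun n (eight p) i ≠ 0 ↔ S.lab i = S.lab p := by
  have hsum : ∀ t, S.fsum (eight p) t = if t = S.lab p then 8 else 0 := fun t => by
    simp only [Sextet.fsum, eight, Finset.sum_pi_single', Finset.mem_filter, mem_univ, true_and,
      eq_comm (a := S.lab p)]
  unfold Sextet.xiFun
  by_cases e : S.lab i = S.lab p
  · rw [e, hsum, if_pos rfl]
    by_cases e' : i = p <;> split <;> simp [eight, e']
  · have : i ≠ p := fun e' => e (e' ▸ rfl)
    rw [hsum, if_neg e]
    simp [eight, this, e]

/-- Elements all of whose conjugates are monomial are central. -/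
theorem mem_center_of_conj {g : Co0} (h : ∀ k : Co0, k * g * k⁻¹ ∈ crossStab) :
    g ∈ Subgroup.center Co0 := by
  have hg : g ∈ crossStab := by simpa using h 1
  obtain ⟨σ, hσ, c, hc, rfl⟩ := exists_mono hg
  have hrel : ∀ (S : Sextet) (n : Fin 6) (p : GolayPt), ∃ r,
      signFun c (permFun σ (S.xiFun n (eight p))) = S.xiFun n (eight r) ∨
      signFun c (permFun σ (S.xiFun n (eight p))) = -S.xiFun n (eight r) := by
    intro S n p
    have hk := mem_crossStab_iff.1 (h (S.xiAut n)) (eight p)
      (mem_stdCross_iff.2 ⟨p, Or.inl rfl⟩)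
    obtain ⟨r, hr⟩ := mem_stdCross_iff.1 hk
    refine ⟨r, ?_⟩
    have hv := S.isLeech_xiFun (isLeech_eight p) n
    rw [xiAut_inv, mul_act, mul_act, act_xiAut S n (isLeech_eight p), act_monoAut hσ hc hv] at hr
    have hw : IsLeech (signFun c (permFun σ (S.xiFun n (eight p)))) := (hv.permFun hσ).signFun hc
    rw [act_xiAut S n hw] at hr
    rcases hr with e | e <;> have e' := congrArg (act (S.xiAut n)) e
    · rw [act_xiAut S n (S.isLeech_xiFun hw n), S.xiFun_xiFun hw, act_xiAut S n (isLeech_eight r)] at e'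
      exact Or.inl e'
    · rw [act_xiAut S n (S.isLeech_xiFun hw n), S.xiFun_xiFun hw, act_neg _ (isLeech_eight r),
        act_xiAut S n (isLeech_eight r)] at e'
      exact Or.inr e'
  have htet : ∀ (S : Sextet) (p : GolayPt), ∃ t : Fin 6, ∀ i,
      S.lab (σ.symm i) = S.lab p ↔ S.lab i = t := by
    intro S p
    obtain ⟨r, hr⟩ := hrel S 1 p
    refine ⟨S.lab r, fun i => ?_⟩
    rw [← xiFun_eight_ne_zero S 1 p (σ.symm i), ← xiFun_eight_ne_zero S 1 r i]
    have hi : ∀ z : V, signFun c z i ≠ 0 ↔ z i ≠ 0 := fun z => by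
      by_cases e : c i = 0 <;> simp [signFun, e]
    rw [show S.xiFun 1 (eight p) (σ.symm i) = permFun σ (S.xiFun 1 (eight p)) i from rfl, ← hi]
    rcases hr with e | e <;> rw [e]
    simp
  have hσ1 : σ = 1 := by
    by_contra hne
    obtain ⟨p, hp⟩ : ∃ p, σ p ≠ p := by
      by_contra hall
      push Not at hall
      exact hne (Equiv.ext fun p => by simpa using hall p)
    have hT : ∀ r s, r ≠ s → r ≠ p → r ≠ σ p → s ≠ p → s ≠ σ p →
        ∀ i ∈ ({p, σ p, r, s} : Finset GolayPt), σ i ∈ ({p, σ p, r, s} : Finset GolayPt) := by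
      intro r s hrs rp rq sp sq i hi
      have hcard : ({p, σ p, r, s} : Finset GolayPt).card = 4 := by
        simp [Ne.symm hp, Ne.symm rp, Ne.symm rq, Ne.symm sp, Ne.symm sq, hrs]
      obtain ⟨S, hS⟩ := exists_sextet _ hcard
      have hp0 : S.lab p = 0 := (hS p).2 (Finset.mem_insert_self _ _)
      have hq0 : S.lab (σ p) = 0 := (hS _).2 (by simp)
      obtain ⟨t, ht⟩ := htet S p
      have ht0 : t = 0 := by
        have := (ht (σ p)).1 (by rw [σ.symm_apply_apply])
        rw [← this, hq0]
      have := (ht (σ i)).1 (by rw [σ.symm_apply_apply, hp0]; exact (hS i).2 hi)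
      exact (hS _).1 (this.trans ht0)
    obtain ⟨r, s, hr, hs, hrs⟩ := exists_pair_univ {p, σ p} (by rw [card_pair (Ne.symm hp)]; norm_num)
    obtain ⟨r', s', hr', hs', hrs'⟩ := exists_pair_univ {p, σ p, r, s}
      (by have := card_le_four (a := p) (b := σ p) (c := r) (d := s); omega)
    simp only [Finset.mem_insert, Finset.mem_singleton, not_or] at hr hs hr' hs'
    have hq : σ (σ p) = p := by
      have a := hT r s hrs hr.1 hr.2 hs.1 hs.2 (σ p) (by simp)
      have b := hT r' s' hrs' hr'.1 hr'.2.1 hs'.1 hs'.2.1 (σ p) (by simp)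
      simp only [Finset.mem_insert, Finset.mem_singleton] at a b
      rcases a with a | a | a | a
      · exact a
      · exact absurd (σ.injective a) hp
      · rcases b with b | b | b | b
        · exact b
        · exact absurd (σ.injective b) hp
        · exact absurd (a.symm.trans b) (fun e => hr'.2.2.1 e.symm)
        · exact absurd (a.symm.trans b) (fun e => hs'.2.2.1 e.symm)
      · rcases b with b | b | b | b
        · exact b
        · exact absurd (σ.injective b) hp
        · exact absurd (a.symm.trans b) (fun e => hr'.2.2.2 e.symm)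
        · exact absurd (a.symm.trans b) (fun e => hs'.2.2.2 e.symm)
    have hfix : ∀ i, i ≠ p → i ≠ σ p → σ i = i := by
      intro i hip hiq
      obtain ⟨u, w, hu, hw, huw⟩ := exists_pair_univ {p, σ p, i}
        (by have := card_le_three (a := p) (b := σ p) (c := i); omega)
      simp only [Finset.mem_insert, Finset.mem_singleton, not_or] at hu hw
      have a := hT i u (Ne.symm hu.2.2) hip hiq hu.1 hu.2.1 i (by simp)
      have b := hT i w (Ne.symm hw.2.2) hip hiq hw.1 hw.2.1 i (by simp)
      simp only [Finset.mem_insert, Finset.mem_singleton] at a b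
      have h1 : σ i ≠ p := fun e => hiq (σ.injective (e.trans hq.symm))
      have h2 : σ i ≠ σ p := fun e => hip (σ.injective e)
      rcases a.resolve_left h1 |>.resolve_left h2 with a | a
      · exact a
      · rcases b.resolve_left h1 |>.resolve_left h2 with b | b
        · exact b
        · exact absurd (a.symm.trans b) huw
    obtain ⟨O, hO, hpO, hqO⟩ := exists_octad_missing {p} (by simp) (σ p) (by simpa using hp)
    rw [Finset.singleton_subset_iff] at hpO
    have hO' : O.image σ ∈ octads := by
      refine ⟨(mem_supports_iff _).2 ?_, by rw [card_image_of_injective _ σ.injective, octad_card hO]⟩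
      convert ((mem_M24_iff σ).1 hσ _).1 (octad_ind_mem hO) using 1
      ext i
      have : i ∈ O.image σ ↔ σ.symm i ∈ O := by
        rw [Finset.mem_image]
        exact ⟨fun ⟨a, ha, e⟩ => by rw [← e, σ.symm_apply_apply]; exact ha,
          fun h => ⟨_, h, σ.apply_symm_apply i⟩⟩
      simp [this]
    have e := octad_eq_of_five hO hO' (T := O.erase p)
      (by rw [card_erase_of_mem hpO, octad_card hO]; norm_num) (erase_subset _ _) fun i hi => by
        obtain ⟨hip, hiO⟩ := mem_erase.1 hi
        exact Finset.mem_image.2 ⟨i, hiO, hfix i hip fun e => hqO (e ▸ hiO)⟩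
    exact hqO (e ▸ Finset.mem_image_of_mem σ hpO)
  subst hσ1
  have hsum : ∀ T : Finset GolayPt, T.card = 4 → ∑ i ∈ T, c i = 0 := by
    intro T hT
    obtain ⟨S, hS⟩ := exists_sextet T hT
    obtain ⟨p, hp⟩ := card_pos.1 (by omega : 0 < T.card)
    have hp0 : S.lab p = 0 := (hS p).2 hp
    have hpn : S.lab p ≠ 1 := by rw [hp0]; decide
    obtain ⟨r, hr⟩ := hrel S 1 p
    have hrT : r ∈ T := by
      by_contra hrT
      have h1 : S.xiFun 1 (eight r) p = 0 := by
        by_contra hne
        exact hrT ((hS r).1 (((xiFun_eight_ne_zero S 1 r p).1 hne).symm.trans hp0))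
      have h2 : signFun c (permFun 1 (S.xiFun 1 (eight p))) p ≠ 0 := by
        have := xiFun_eight S hpn p
        rw [if_pos rfl, if_pos rfl] at this
        simp only [signFun, permFun, Equiv.Perm.one_symm, Equiv.Perm.one_apply, this]
        split <;> norm_num
      rcases hr with e | e <;> rw [e] at h2 <;> simp [h1] at h2
    have hr0 : S.lab r = 0 := (hS r).2 hrT
    have hrn : S.lab r ≠ 1 := by rw [hr0]; decide
    obtain ⟨s, hs⟩ : ∃ s : ZMod 2, ∀ i ∈ T,
        c i = (if i = p then 1 else 0) + (if i = r then 1 else 0) + s := by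
      have hz : ∀ z : ZMod 2, z = 0 ∨ z = 1 := by decide
      have hv : ∀ i ∈ T, signFun c (permFun 1 (S.xiFun 1 (eight p))) i =
          (if c i = 0 then 1 else -1) * (if i = p then 4 else -4) ∧
          S.xiFun 1 (eight r) i = if i = r then 4 else -4 := fun i hi => by
        have a := xiFun_eight S hpn i
        have b := xiFun_eight S hrn i
        rw [(hS i).2 hi, hp0, if_pos rfl] at a
        rw [(hS i).2 hi, hr0, if_pos rfl] at b
        refine ⟨?_, b⟩
        simp only [signFun, permFun, Equiv.Perm.one_symm, Equiv.Perm.one_apply, a]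
        by_cases e : c i = 0 <;> by_cases e' : i = p <;> simp [e, e']
      have key : ∀ (z : ZMod 2) (A B : Prop) [Decidable A] [Decidable B],
          ((if z = 0 then (1 : ℤ) else -1) * (if A then 4 else -4) = if B then 4 else -4) →
            z = (if A then 1 else 0) + (if B then 1 else 0) := by
        intro z A B _ _ h
        rcases hz z with e1 | e1 <;> subst e1 <;> by_cases e2 : A <;> by_cases e3 : B <;>
          simp [e2, e3] at h ⊢ <;> rfl
      rcases hr with e | e
      · refine ⟨0, fun i hi => ?_⟩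
        have := congrFun e i
        rw [(hv i hi).1, (hv i hi).2] at this
        rw [add_zero]
        exact key _ _ _ this
      · refine ⟨1, fun i hi => ?_⟩
        have := congrFun e i
        rw [(hv i hi).1, Pi.neg_apply, (hv i hi).2] at this
        have hnot : c i = (if i = p then 1 else 0) + (if ¬ i = r then 1 else 0) :=
          key _ _ _ (by rw [this]; by_cases e3 : i = r <;> simp [e3])
        rw [hnot]
        by_cases e3 : i = r <;> simp [e3]
        have h2 : ∀ z : ZMod 2, z = z + 1 + 1 := by decide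
        exact h2 _
    rw [sum_congr rfl hs, sum_add_distrib, sum_add_distrib, sum_ite_eq', sum_ite_eq', if_pos hp,
      if_pos hrT, sum_const, hT, nsmul_eq_mul]
    have key : ∀ s : ZMod 2, 1 + 1 + ((4 : ℕ) : ZMod 2) * s = 0 := by decide
    exact key s
  have hconst : ∀ p q, c p = c q := by
    intro p q
    by_cases hpq : p = q
    · rw [hpq]
    obtain ⟨a, b, ha, hb, hab⟩ := exists_pair_univ {p, q} (by rw [card_pair hpq]; norm_num)
    obtain ⟨d, -, hd, -, -⟩ := exists_pair_univ {p, q, a, b}
      (by have := card_le_four (a := p) (b := q) (c := a) (d := b); omega)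
    simp only [Finset.mem_insert, Finset.mem_singleton, not_or] at ha hb hd
    have h1 := hsum {p, a, b, d}
      (by simp [Ne.symm ha.1, Ne.symm hb.1, Ne.symm hd.1, hab, Ne.symm hd.2.2.1, Ne.symm hd.2.2.2])
    have h2 := hsum {q, a, b, d}
      (by simp [Ne.symm ha.2, Ne.symm hb.2, Ne.symm hd.2.1, hab, Ne.symm hd.2.2.1, Ne.symm hd.2.2.2])
    rw [sum_insert (by simp [Ne.symm ha.1, Ne.symm hb.1, Ne.symm hd.1])] at h1
    rw [sum_insert (by simp [Ne.symm ha.2, Ne.symm hb.2, Ne.symm hd.2.1])] at h2
    exact add_right_cancel (h1.trans h2.symm)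
  rw [mem_center_iff]
  by_cases h0 : c none = 0
  · left
    refine act_eq_of_forall fun x hx => ?_
    rw [act_monoAut hσ hc hx, one_act]
    ext i; simp [signFun, permFun, hconst i none, h0, Equiv.Perm.one_symm]
  · right
    refine act_eq_of_forall fun x hx => ?_
    rw [act_monoAut hσ hc hx, act_negOne hx]
    ext i; simp [signFun, permFun, hconst i none, h0, Equiv.Perm.one_symm]

theorem le_center_of_normal {K : Subgroup Co0} (hK : K.Normal) (h : K ≤ crossStab) :
    K ≤ Subgroup.center Co0 := fun g hg => mem_center_of_conj fun k => h (hK.conj_mem g hg k)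

theorem sup_crossStab_eq_top {K : Subgroup Co0} (h : ¬ K ≤ crossStab) : K ⊔ crossStab = ⊤ :=
  isCoatom_crossStab.2 _ (lt_of_le_of_ne le_sup_right fun e => h (le_sup_left.trans e.ge))

/-- A monomial map moving a point, conjugate to a sign change. -/
theorem exists_conj_sign : ∃ (k : Co0) (e : Co0), e ∈ signGroup ∧ k * e * k⁻¹ ∈ crossStab ∧
    ∃ p q : GolayPt, p ≠ q ∧ act (k * e * k⁻¹) (eight p) = -eight q := by
  obtain ⟨p, q, -, -, hpq⟩ := exists_pair_univ ∅ (by simp)
  obtain ⟨r, s, hr, hs, hrs⟩ := exists_pair_univ {p, q} (by rw [card_pair hpq]; norm_num)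
  simp only [Finset.mem_insert, Finset.mem_singleton, not_or] at hr hs
  let T : Finset GolayPt := {p, q, r, s}
  have hT : T.card = 4 := by
    simp [T, hpq, Ne.symm hr.1, Ne.symm hs.1, Ne.symm hr.2, Ne.symm hs.2, hrs]
  obtain ⟨S, hS⟩ := exists_sextet T hT
  obtain ⟨c, hc, hcT⟩ := exists_code_word T (by omega) fun i => if i = q ∨ i = r then 1 else 0
  refine ⟨S.xiAut 1, signAut c hc, signAut_mem_signGroup hc, ?_⟩
  have hp0 : S.lab p = 0 := (hS p).2 (by simp [T])
  have hpn : S.lab p ≠ 1 := by rw [hp0]; decide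
  have hfib : univ.filter (fun i => S.lab i = 0) = T := by
    ext i; rw [Finset.mem_filter]; simp [hS]
  have hv := S.isLeech_xiFun (isLeech_eight p) 1
  have hw : IsLeech (signFun c (S.xiFun 1 (eight p))) := hv.signFun hc
  have hwv : ∀ i, signFun c (S.xiFun 1 (eight p)) i =
      if i ∈ T then (if i = s then -4 else 4) else 0 := fun i => by
    have a := xiFun_eight S hpn i
    rw [hp0] at a
    by_cases hi : i ∈ T
    · rw [if_pos ((hS i).2 hi)] at a
      rw [if_pos hi]
      simp only [signFun, a, hcT i hi]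
      simp only [T, Finset.mem_insert, Finset.mem_singleton] at hi
      rcases hi with rfl | rfl | rfl | rfl
      · simp [hpq, Ne.symm hr.1, Ne.symm hs.1]
      · simp [Ne.symm hpq, Ne.symm hs.2]
      · simp [hr.1, hrs]
      · simp [hs.1, hs.2, Ne.symm hrs]
    · rw [if_neg (fun h => hi ((hS i).1 h))] at a
      rw [if_neg hi]
      simp [signFun, a]
  have hu : act (S.xiAut 1 * signAut c hc * (S.xiAut 1)⁻¹) (eight p) = -eight s := by
    rw [xiAut_inv, mul_act, mul_act, act_xiAut S 1 (isLeech_eight p), act_signAut hc hv,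
      act_xiAut S 1 hw]
    set w := signFun c (S.xiFun 1 (eight p))
    ext i
    have hsum : ∀ t, S.fsum w t = if t = 0 then 8 else 0 := fun t => by
      unfold Sextet.fsum
      by_cases ht : t = 0
      · subst ht
        rw [if_pos rfl, hfib, sum_congr rfl fun j hj => (hwv j).trans (if_pos hj)]
        simp [T, hpq, Ne.symm hr.1, Ne.symm hs.1, Ne.symm hr.2, Ne.symm hs.2, hrs]
      · rw [if_neg ht]
        refine sum_eq_zero fun j hj => (hwv j).trans (if_neg fun hjT => ?_)
        exact ht ((Finset.mem_filter.1 hj).2 ▸ (hS j).2 hjT)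
    unfold Sextet.xiFun
    rw [hsum, hwv]
    by_cases hi : i ∈ T
    · rw [(hS i).2 hi, if_neg (by decide), if_pos hi, if_pos rfl]
      by_cases e : i = s <;> simp [eight, e]
    · have : i ≠ s := fun e => hi (by simp [T, e])
      rw [if_neg hi, if_neg (fun h => hi ((hS i).1 h))]
      simp [eight, this]
  exact ⟨mem_crossStab_of_one (q := s) (Or.inr hu), p, s, Ne.symm hs.1, hu⟩

/-- The conjugates of the sign changes generate `Co0`. -/
theorem normalClosure_signGroup : Subgroup.normalClosure (signGroup : Set Co0) = ⊤ := by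
  set M := Subgroup.normalClosure (signGroup : Set Co0) with hM
  have hEM : ∀ {c : GolayPt → ZMod 2} (hc : c ∈ golayCode), signAut c hc ∈ M := fun hc =>
    Subgroup.subset_normalClosure (signAut_mem_signGroup hc)
  have hMn : M.Normal := Subgroup.normalClosure_normal
  have hle : crossStab ≤ M := by
    obtain ⟨k, e, ⟨c, hc, rfl⟩, hkN, p, q, hpq, hu⟩ := exists_conj_sign
    obtain ⟨σ, hσ, d, hd, hmono⟩ := exists_mono hkN
    have hperm : permAut σ hσ ∈ M := by
      have h1 : monoAut σ hσ d hd ∈ M := hmono ▸ hMn.conj_mem _ (hEM hc) k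
      have h2 := mul_mem (inv_mem (hEM hd)) h1
      rwa [monoAut, inv_mul_cancel_left] at h2
    have hσ1 : σ ≠ 1 := by
      intro e
      subst e
      rw [hmono, act_monoAut hσ hd (isLeech_eight p), permFun_eight, signFun_eight] at hu
      simp only [Equiv.Perm.one_apply] at hu
      by_cases e0 : d p = 0
      · exact eight_ne_neg _ _ ((if_pos e0).symm.trans hu)
      · exact hpq (eight_injective (neg_injective ((if_neg e0).symm.trans hu)))
    have hmul : ∀ (a b : M24), permAut (a * b : M24).1 (a * b).2 =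
        permAut a.1 a.2 * permAut b.1 b.2 := fun a b => act_eq_of_forall fun x hx => by
      rw [mul_act, act_permAut _ hx, act_permAut b.2 hx, act_permAut a.2 (hx.permFun b.2)]
      ext i
      rfl
    let f : M24 →* Co0 := MonoidHom.mk' (fun a => permAut a.1 a.2) hmul
    have hn : (M.comap f).Normal := hMn.comap f
    haveI := H11.isSimpleGroup_M24
    have htop : M.comap f = ⊤ := by
      rcases hn.eq_bot_or_eq_top with h | h
      · exfalso
        have : (⟨σ, hσ⟩ : M24) ∈ M.comap f := hperm
        rw [h, Subgroup.mem_bot] at this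
        exact hσ1 (congrArg Subtype.val this)
      · exact h
    intro g hg
    obtain ⟨τ, hτ, d', hd', rfl⟩ := exists_mono hg
    have : (⟨τ, hτ⟩ : M24) ∈ M.comap f := by rw [htop]; exact Subgroup.mem_top _
    exact mul_mem (hEM hd') this
  have hnot : ¬ M ≤ crossStab := by
    intro h
    obtain ⟨i, j, -, -, hij⟩ := exists_pair_univ ∅ (by simp)
    obtain ⟨c, hc, hci, hcj⟩ := code_separates hij
    have := (mem_center_iff).1 (le_center_of_normal hMn h (hEM hc))
    rcases this with e | e
    · have := congrArg (fun k => act k (eight j)) e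
      simp only [act_signAut hc (isLeech_eight j), signFun_eight, hcj, one_ne_zero, if_false,
        one_act] at this
      exact eight_ne_neg _ _ this.symm
    · have := congrArg (fun k => act k (eight i)) e
      simp only [act_signAut hc (isLeech_eight i), signFun_eight, hci, if_pos,
        act_negOne (isLeech_eight i)] at this
      exact eight_ne_neg _ _ this
  rw [← sup_crossStab_eq_top hnot, sup_eq_left.2 hle]

/-- `Co0` is generated by its commutators and its centre. -/
theorem commutator_sup_center : commutator Co0 ⊔ Subgroup.center Co0 = ⊤ := by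
  set D := commutator Co0 ⊔ Subgroup.center Co0 with hD
  have hDn : D.Normal := Subgroup.sup_normal _ _
  let A : AddSubgroup (GolayPt → ZMod 2) :=
    { carrier := {c | ∃ hc : c ∈ golayCode, signAut c hc ∈ D}
      zero_mem' := ⟨zero_mem _, by rw [signAut_zero]; exact one_mem _⟩
      add_mem' := by
        rintro a b ⟨ha, ha'⟩ ⟨hb, hb'⟩
        exact ⟨add_mem ha hb, signAut_mul ha hb ▸ mul_mem ha' hb'⟩
      neg_mem' := by
        rintro a ⟨ha, ha'⟩
        rw [show -a = a by ext i; simp [ZMod.neg_eq_self_mod_two]]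
        exact ⟨ha, ha'⟩ }
  have hone : (1 : GolayPt → ZMod 2) ∈ A :=
    ⟨one_mem_golayCode, Subgroup.mem_sup_right negOne_mem_center⟩
  have hconj : ∀ σ, σ ∈ M24 → ∀ c, c ∈ golayCode → (fun i => c (σ.symm i)) + c ∈ A := by
    intro σ hσ c hc
    refine ⟨add_mem (((mem_M24_iff σ).1 hσ c).1 hc) hc, Subgroup.mem_sup_left ?_⟩
    rw [← signAut_mul (((mem_M24_iff σ).1 hσ c).1 hc) hc, ← permAut_conj_signAut hσ hc]
    conv => arg 2; arg 2; rw [← signAut_inv hc]
    exact Subgroup.commutator_mem_commutator (Subgroup.mem_top _) (Subgroup.mem_top _)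
  have hoct : ∀ O ∈ octads, ind O ∈ A := by
    intro O hO
    obtain ⟨T, hT⟩ := exists_subset_card_eq (s := (univ : Finset GolayPt)) (n := 4) (by simp)
    obtain ⟨S, -⟩ := exists_sextet T hT.2
    have h01 := octad_union S (show (0 : Fin 6) ≠ 1 by decide)
    have h23 := octad_union S (show (2 : Fin 6) ≠ 3 by decide)
    have h45 := octad_union S (show (4 : Fin 6) ≠ 5 by decide)
    have himg : ∀ {σ : Equiv.Perm GolayPt} {P Q : Finset GolayPt}, σ • P = Q →
        (fun i => ind P (σ.symm i)) = ind Q := fun {σ P Q} h => by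
      ext i
      have : i ∈ Q ↔ σ.symm i ∈ P := by rw [← h, ← Finset.inv_smul_mem_iff]; rfl
      simp [this]
    obtain ⟨σ, hσ, hmap⟩ := H11.exists_smul_octad h01 h23
    have h := hconj σ hσ _ (octad_ind_mem h01)
    rw [himg hmap] at h
    have h45A : ind (univ.filter fun i => S.lab i = 4 ∨ S.lab i = 5) ∈ A := by
      convert add_mem h hone using 1
      ext i
      simp only [ind_apply, Pi.add_apply, Pi.one_apply, Finset.mem_filter, mem_univ, true_and]
      generalize S.lab i = t
      fin_cases t <;> simp <;> rfl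
    obtain ⟨τ, hτ, hmap'⟩ := H11.exists_smul_octad h45 hO
    have h' := add_mem (hconj τ hτ _ (octad_ind_mem h45)) h45A
    rw [himg hmap', add_assoc] at h'
    convert h' using 1
    ext i
    simp only [Pi.add_apply]
    rw [(by decide : ∀ z : ZMod 2, z + z = 0), add_zero]
  rw [eq_top_iff, ← normalClosure_signGroup]
  refine Subgroup.normalClosure_le_normal ?_
  rintro _ ⟨c, hc, rfl⟩
  obtain ⟨hc', hmem⟩ : ∃ h : c ∈ golayCode, signAut c h ∈ D := code_mem_of_octads A hoct hc
  exact hmem

/-- A normal subgroup strictly above the centre is everything. -/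
theorem eq_top_of_normal {K : Subgroup Co0} (hK : K.Normal) (hZ : Subgroup.center Co0 ≤ K)
    (hne : ¬ K ≤ Subgroup.center Co0) : K = ⊤ := by
  have hN := sup_crossStab_eq_top fun h => hne (le_center_of_normal hK h)
  have hconj : ∀ g : Co0, ∀ x ∈ K ⊔ signGroup, g * x * g⁻¹ ∈ K ⊔ signGroup := by
    intro g
    have hg : g ∈ K ⊔ crossStab := hN ▸ Subgroup.mem_top g
    have key : (K ⊔ signGroup).map (MulAut.conj g).toMonoidHom ≤ K ⊔ signGroup := by
      obtain ⟨k, hk, n, hn, rfl⟩ := Subgroup.mem_sup_of_normal_left.1 hg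
      rw [Subgroup.map_sup, sup_le_iff]
      refine ⟨?_, ?_⟩
      · rintro _ ⟨x, hx, rfl⟩
        exact Subgroup.mem_sup_left (hK.conj_mem x hx _)
      · rintro _ ⟨e, he, rfl⟩
        have h1 : (MulAut.conj (k * n)).toMonoidHom e = k * (n * e * n⁻¹) * k⁻¹ := by
          simp only [MulEquiv.coe_toMonoidHom, MulAut.conj_apply]; group
        rw [h1]
        exact mul_mem (mul_mem (Subgroup.mem_sup_left hk)
          (Subgroup.mem_sup_right (monoAut_conj_mem hn he))) (Subgroup.mem_sup_left (inv_mem hk))
    exact fun x hx => key ⟨x, hx, rfl⟩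
  have htop : K ⊔ signGroup = ⊤ := by
    haveI : (K ⊔ signGroup).Normal := ⟨fun x hx g => hconj g x hx⟩
    rw [eq_top_iff, ← normalClosure_signGroup]
    exact Subgroup.normalClosure_le_normal fun e he => Subgroup.mem_sup_right he
  rw [eq_top_iff, ← commutator_sup_center, sup_le_iff]
  refine ⟨?_, hZ⟩
  rw [commutator_eq_closure, Subgroup.closure_le]
  rintro _ ⟨a, b, rfl⟩
  have ha : a ∈ K ⊔ signGroup := htop ▸ Subgroup.mem_top a
  have hb : b ∈ K ⊔ signGroup := htop ▸ Subgroup.mem_top b
  obtain ⟨k, hk, e, he, rfl⟩ := Subgroup.mem_sup_of_normal_left.1 ha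
  obtain ⟨k', hk', e', he', rfl⟩ := Subgroup.mem_sup_of_normal_left.1 hb
  have h1 : ∀ x : K, ((x : Co0) : Co0 ⧸ K) = 1 := fun x => (QuotientGroup.eq_one_iff _).2 x.2
  rw [SetLike.mem_coe, ← QuotientGroup.eq_one_iff, commutatorElement_def]
  simp only [QuotientGroup.mk_mul, QuotientGroup.mk_inv, h1 ⟨k, hk⟩, h1 ⟨k', hk'⟩, one_mul]
  rw [← QuotientGroup.mk_mul, signGroup_comm he he', QuotientGroup.mk_mul]
  group

/-- `Co0` modulo its centre is simple. -/
theorem isSimpleGroup_Co1 : IsSimpleGroup (Co0 ⧸ Subgroup.center Co0) := by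
  have hne : Subgroup.center Co0 ≠ ⊤ := fun h => by
    have := card_center
    rw [h, Subgroup.card_top, card_Co0] at this
    norm_num at this
  haveI : Nontrivial (Co0 ⧸ Subgroup.center Co0) :=
    QuotientGroup.nontrivial_iff.2 hne
  refine ⟨fun H hH => ?_⟩
  have hsurj := QuotientGroup.mk'_surjective (Subgroup.center Co0)
  have hle : Subgroup.center Co0 ≤ H.comap (QuotientGroup.mk' _) := fun x hx => by
    rw [Subgroup.mem_comap, QuotientGroup.mk'_apply, (QuotientGroup.eq_one_iff x).2 hx]
    exact one_mem H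
  by_cases h : H.comap (QuotientGroup.mk' _) ≤ Subgroup.center Co0
  · left
    rw [← Subgroup.map_comap_eq_self_of_surjective hsurj H, Subgroup.map_eq_bot_iff,
      QuotientGroup.ker_mk']
    exact h
  · right
    rw [← Subgroup.map_comap_eq_self_of_surjective hsurj H,
      eq_top_of_normal (hH.comap _) hle h, Subgroup.map_top_of_surjective _ hsurj]

theorem card_Co1 : Nat.card (Co0 ⧸ Subgroup.center Co0) = 4157776806543360000 := by
  have h := (Subgroup.center Co0).card_mul_index
  rw [card_center, card_Co0, Subgroup.index] at h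
  omega

end Cfsg.Agent.H14
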