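import Cfsg.Agent.H14.CrossBlock

/-! The monomial group is a maximal subgroup of `Co0`. -/

namespace Cfsg.Agent.H14

open Finset

section

variable {H : Subgroup Co0} (hH : crossStab ≤ H)
include hH

/-- A block vector outside the standard cross leads to one of shape `4^4`. -/
theorem block_tetrad {x : V} (hx : x ∈ blockVecs H) (hstd : x ∉ stdCross) :
    ∃ x'' ∈ blockVecs H, ∀ i, x'' i = 0 ∨ x'' i = 4 ∨ x'' i = -4 := by
  obtain ⟨hL, hn⟩ := blockVecs_props hx
  have hsix : ∀ z ∈ blockVecs H, (∃ q, z q = 6 ∨ z q = -6) →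
      ∃ x'' ∈ blockVecs H, ∀ i, x'' i = 0 ∨ x'' i = 4 ∨ x'' i = -4 :=
    fun z hz ⟨q, hq⟩ => block_tetrad_of_six hH hz hq
  have hodd : ∀ z ∈ blockVecs H, (∀ i, z i % 2 = 1) →
      ∃ x'' ∈ blockVecs H, ∀ i, x'' i = 0 ∨ x'' i = 4 ∨ x'' i = -4 := by
    intro z hz ho
    obtain ⟨w, hw, h⟩ := block_six_of_odd hH hz ho
    exact hsix w hw h
  have hsum8 : ∀ z ∈ blockVecs H, ∀ c ∈ octads, ∑ i ∈ c, z i ^ 2 = 8 →
      ∃ x'' ∈ blockVecs H, ∀ i, x'' i = 0 ∨ x'' i = 4 ∨ x'' i = -4 := by
    intro z hz c hc hs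
    obtain ⟨w, hw, q, hq⟩ := exists_coord_of_sign hH hz c (octad_ind_mem hc)
    rw [hs] at hq
    exact hsix w hw ⟨q, by omega⟩
  -- vectors with some coordinate of absolute value 4
  have hfour : ∀ z ∈ blockVecs H, (∃ i, z i = 4 ∨ z i = -4) →
      ∃ x'' ∈ blockVecs H, ∀ i, x'' i = 0 ∨ x'' i = 4 ∨ x'' i = -4 := by
    intro z hz ⟨i0, hi0⟩
    obtain ⟨hzL, hzn⟩ := blockVecs_props hz
    have he : ∀ j, z j % 2 = 0 := (parity_all hzL).resolve_right fun h => by have := h i0; omega
    by_cases h6 : ∃ q, z q = 6 ∨ z q = -6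
    · exact hsix z hz h6
    by_cases h8 : ∃ q, z q = 8 ∨ z q = -8
    · obtain ⟨q, hq⟩ := h8
      rcases eq_eight_of_coord hzn hq with e | e <;> rw [e] at hi0 <;>
        by_cases e' : i0 = q <;> simp [eight, e'] at hi0
    have hv := even_values64 hzn he h6 h8
    have hcount := card_two hv
    rw [hzn] at hcount
    set D := univ.filter fun j => z j = 2 ∨ z j = -2 with hD
    set F := univ.filter fun j => z j = 4 ∨ z j = -4 with hF
    by_cases hD0 : D = ∅
    · refine ⟨z, hz, fun j => ?_⟩
      rcases hv j with h | h | h | h | h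
      · exact Or.inl h
      · exact absurd (hD0 ▸ Finset.mem_filter.2 ⟨mem_univ _, Or.inl h⟩) (notMem_empty j)
      · exact absurd (hD0 ▸ Finset.mem_filter.2 ⟨mem_univ _, Or.inr h⟩) (notMem_empty j)
      · exact Or.inr (Or.inl h)
      · exact Or.inr (Or.inr h)
    have hDc : ind D ∈ golayCode := by
      convert par_half_mem hzL he using 1
      ext j
      rw [par_apply, ind_apply]
      by_cases h : j ∈ D
      · rw [if_pos h]; rcases (Finset.mem_filter.1 h).2 with e | e <;> rw [e] <;> rfl
      · rw [if_neg h]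
        rcases hv j with e | e | e | e | e
        · rw [e]; rfl
        · exact (h (Finset.mem_filter.2 ⟨mem_univ _, Or.inl e⟩)).elim
        · exact (h (Finset.mem_filter.2 ⟨mem_univ _, Or.inr e⟩)).elim
        · rw [e]; rfl
        · rw [e]; rfl
    have hw := golay_weight _ hDc
    rw [hammingNorm_ind] at hw
    have hDpos : 0 < D.card := card_pos.2 (nonempty_iff_ne_empty.2 hD0)
    have hFpos : 0 < F.card := card_pos.2 ⟨i0, Finset.mem_filter.2 ⟨mem_univ _, hi0⟩⟩
    have hsumc : ∀ c : Finset GolayPt, Disjoint c F →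
        ∑ i ∈ c, z i ^ 2 = 4 * ((c ∩ D).card : ℤ) := by
      intro c hcF
      rw [← sum_inter_add_sum_sdiff c D, sum_congr rfl (g := fun _ => (4 : ℤ)) fun i hi => ?_,
        sum_eq_zero (s := c \ D) fun i hi => ?_, sum_const, nsmul_eq_mul]
      · ring
      · obtain ⟨hic, hiD⟩ := mem_sdiff.1 hi
        have hiF : i ∉ F := Finset.disjoint_left.1 hcF hic
        rcases hv i with e | e | e | e | e
        · rw [e]; rfl
        · exact (hiD (Finset.mem_filter.2 ⟨mem_univ _, Or.inl e⟩)).elim
        · exact (hiD (Finset.mem_filter.2 ⟨mem_univ _, Or.inr e⟩)).elim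
        · exact (hiF (Finset.mem_filter.2 ⟨mem_univ _, Or.inl e⟩)).elim
        · exact (hiF (Finset.mem_filter.2 ⟨mem_univ _, Or.inr e⟩)).elim
      · rcases (Finset.mem_filter.1 (mem_inter.1 hi).2).2 with e | e <;> rw [e] <;> norm_num
    suffices hgoal : ∃ c ∈ octads, Disjoint c F ∧ (c ∩ D).card = 2 by
      obtain ⟨c, hc, hcF, hcD⟩ := hgoal
      exact hsum8 z hz c hc (by rw [hsumc c hcF, hcD]; norm_num)
    exact exists_octad_two hDc (by omega)
      (show Disjoint D F from Finset.disjoint_filter.2 fun j _ a b => by omega) (by omega)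
  rcases parity_all hL with he | ho
  · by_cases h4 : ∃ i, x i = 4 ∨ x i = -4
    · exact hfour x hx h4
    by_cases h6 : ∃ q, x q = 6 ∨ x q = -6
    · exact hsix x hx h6
    by_cases h8 : ∃ q, x q = 8 ∨ x q = -8
    · obtain ⟨q, hq⟩ := h8
      refine absurd (mem_stdCross_iff.2 ⟨q, eq_eight_of_coord hn hq⟩) hstd
    have hv := even_values64 hn he h6 h8
    have hcount := card_two hv
    rw [hn] at hcount
    push Not at h4
    have h40 : (univ.filter fun i => x i = 4 ∨ x i = -4).card = 0 :=
      card_eq_zero.2 (filter_eq_empty_iff.2 fun i _ h => by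
        rcases h with h | h
        exacts [(h4 i).1 h, (h4 i).2 h])
    rw [h40] at hcount
    set D := univ.filter fun j => x j = 2 ∨ x j = -2 with hD
    have hD16 : D.card = 16 := by omega
    have hOc : ind (univ \ D) ∈ golayCode := by
      convert add_mem (par_half_mem hL he) one_mem_golayCode using 1
      ext j
      simp only [Pi.add_apply, Pi.one_apply, par_apply, ind_apply]
      by_cases h : j ∈ D
      · rw [if_neg (by simp [h])]
        rcases (Finset.mem_filter.1 h).2 with e | e <;> rw [e] <;> rfl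
      · rw [if_pos (by simp [h])]
        rcases hv j with e | e | e | e | e
        · rw [e]; rfl
        · exact (h (Finset.mem_filter.2 ⟨mem_univ _, Or.inl e⟩)).elim
        · exact (h (Finset.mem_filter.2 ⟨mem_univ _, Or.inr e⟩)).elim
        · exact absurd e (h4 j).1
        · exact absurd e (h4 j).2
    have hO : univ \ D ∈ octads :=
      ⟨(mem_supports_iff _).2 hOc, by rw [card_univ_sdiff, hD16]; simp⟩
    obtain ⟨c, hc, hcD⟩ := exists_octad_four hO
    have hs : ∑ i ∈ c, x i ^ 2 = 16 := by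
      rw [← sum_inter_add_sum_sdiff c (univ \ D),
        sum_eq_zero (s := c ∩ (univ \ D)) fun i hi => ?_,
        sum_congr rfl (s₁ := c \ (univ \ D)) (g := fun _ => (4 : ℤ)) fun i hi => ?_, sum_const,
        card_sdiff_of_subset_inter hcD hc]
      · norm_num
      · have hiD : i ∈ D := by
          have := (mem_sdiff.1 hi).2
          simpa using this
        rcases (Finset.mem_filter.1 hiD).2 with e | e <;> rw [e] <;> norm_num
      · have hiD : i ∉ D := (mem_sdiff.1 (mem_inter.1 hi).2).2
        rcases hv i with e | e | e | e | e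
        · rw [e]; rfl
        · exact (hiD (Finset.mem_filter.2 ⟨mem_univ _, Or.inl e⟩)).elim
        · exact (hiD (Finset.mem_filter.2 ⟨mem_univ _, Or.inr e⟩)).elim
        · exact absurd e (h4 i).1
        · exact absurd e (h4 i).2
    obtain ⟨w, hw', q, hq⟩ := exists_coord_of_sign hH hx c (octad_ind_mem hc)
    rw [hs] at hq
    exact hfour w hw' ⟨q, by omega⟩
  · exact hodd x hx ho

/-- A subgroup above the monomial group reaching another cross contains all sextet maps. -/
theorem xiAut_mem_of_reach {x : V} (hx : x ∈ blockVecs H) (hstd : x ∉ stdCross) (S : Sextet)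
    (n : Fin 6) : S.xiAut n ∈ H := by
  obtain ⟨z, hz, hzv⟩ := block_tetrad hH hx hstd
  obtain ⟨hzL, hzn⟩ := blockVecs_props hz
  have hU : (univ.filter fun i => z i ≠ 0).card = 4 := by
    have h : sqNorm z = ∑ i ∈ univ.filter (fun i => z i ≠ 0), (16 : ℤ) := by
      rw [sum_filter]
      exact sum_congr rfl fun i _ => by rcases hzv i with h | h | h <;> simp [h]
    rw [hzn, sum_const, nsmul_eq_mul] at h
    omega
  obtain ⟨a, b, c, d, hab, hac, had, hbc, hbd, hcd, hUe⟩ := card_eq_four.1 hU
  have hex : ∀ t : Fin 6, ∃ j : Fin 6, j ≠ t := by decide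
  obtain ⟨j, hj⟩ := hex n
  obtain ⟨a', b', c', d', hab', hac', had', hbc', hbd', hcd', hTe⟩ :=
    card_eq_four.1 (S.card_fib j)
  obtain ⟨σ, hσ, ha, hb, hc, hd⟩ := exists_perm4 a b c d a' b' c' d'
    (by simp [hab, hac, had, hbc, hbd, hcd]) (by simp [hab', hac', had', hbc', hbd', hcd'])
  set w := act (permAut σ hσ) z with hwdef
  have hw : w ∈ blockVecs H := blockVecs_act hz (hH (permAut_mem_crossStab σ hσ))
  obtain ⟨hwL, hwn⟩ := blockVecs_props hw
  have hwz : ∀ i, w i = z (σ.symm i) := fun i => by rw [hwdef, act_permAut hσ hzL]; rfl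
  have hwval : ∀ i, (S.lab i = j → w i = 4 ∨ w i = -4) ∧ (S.lab i ≠ j → w i = 0) := by
    intro i
    have hmem : S.lab i = j ↔ z (σ.symm i) ≠ 0 := by
      have h1 := Finset.ext_iff.1 hTe i
      have h2 := Finset.ext_iff.1 hUe (σ.symm i)
      rw [Finset.mem_filter] at h1 h2
      simp only [mem_univ, true_and, Finset.mem_insert, Finset.mem_singleton] at h1 h2
      rw [h1, h2, Equiv.symm_apply_eq, Equiv.symm_apply_eq, Equiv.symm_apply_eq,
        Equiv.symm_apply_eq, ha, hb, hc, hd]
    refine ⟨fun h => ?_, fun h => ?_⟩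
    · rw [hwz]; exact (hzv _).resolve_left (hmem.1 h)
    · rw [hwz]; by_contra h'; exact h (hmem.2 h')
  -- prescribe signs: the image of `8 e_a'`
  have haj : S.lab a' = j := by
    have := Finset.ext_iff.1 hTe a'
    rw [Finset.mem_filter] at this
    simpa using this
  set v := S.xiFun n (eight a') with hvdef
  have hvL : IsLeech v := S.isLeech_xiFun (isLeech_eight a') n
  have hvval : ∀ i, (S.lab i = j → v i = if i = a' then 4 else -4) ∧ (S.lab i ≠ j → v i = 0) := by
    intro i
    have hsum : ∀ t, S.fsum (eight a') t = if t = j then 8 else 0 := fun t => by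
      simp only [Sextet.fsum, eight, Finset.sum_pi_single', Finset.mem_filter, mem_univ, true_and,
        haj, eq_comm (a := j)]
    refine ⟨fun h => ?_, fun h => ?_⟩ <;> simp only [hvdef, Sextet.xiFun]
    · rw [h, hsum, if_pos rfl, if_neg hj]
      by_cases e : i = a' <;> simp [eight, e]
    · have : i ≠ a' := fun e => h (e ▸ haj)
      rw [hsum, if_neg h]
      simp [eight, this]
  obtain ⟨cw, hcw, hcwv⟩ := exists_code_word (univ.filter fun i => S.lab i = j)
    (by rw [S.card_fib]; norm_num) fun i => if w i = v i then 0 else 1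
  have hvw : signFun cw w = v := by
    ext i
    by_cases h : S.lab i = j
    · have hi := hcwv i (Finset.mem_filter.2 ⟨mem_univ _, h⟩)
      by_cases e : w i = v i
      · simp [signFun, hi, e]
      · rw [if_neg e] at hi
        have h1 := (hwval i).1 h
        have h2 := (hvval i).1 h
        simp only [signFun, hi, one_ne_zero, if_false]
        split at h2 <;> omega
    · simp [signFun, (hwval i).2 h, (hvval i).2 h]
  have hv : v ∈ blockVecs H := by
    rw [← hvw, ← act_signAut hcw hwL]
    exact blockVecs_act hw (hH (signAut_mem_crossStab cw hcw))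
  obtain ⟨g, hg, y, hy, e⟩ := hv
  have hback : act ((S.xiAut n)⁻¹ * g) y = eight a' := by
    rw [mul_act, e, hvdef, ← act_xiAut S n (isLeech_eight a'), inv_act_act]
  have hmem : (S.xiAut n)⁻¹ * g ∈ crossStab := by
    obtain ⟨p, hp⟩ := mem_stdCross_iff.1 hy
    refine mem_crossStab_of_one (p := p) (q := a') ?_
    rcases hp with rfl | rfl
    · exact Or.inl hback
    · right
      rw [act_neg _ (isLeech_eight p)] at hback
      rw [← hback, neg_neg]
  have := mul_mem hg (inv_mem (hH hmem))
  simpa [mul_assoc] using this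

end

/-- The monomial group is maximal. -/
theorem isCoatom_crossStab : IsCoatom crossStab := by
  refine ⟨fun h => ?_, fun H hlt => ?_⟩
  · obtain ⟨T, hT⟩ := exists_subset_card_eq (s := (univ : Finset GolayPt)) (n := 4) (by simp)
    obtain ⟨S, -⟩ := exists_sextet T hT.2
    obtain ⟨p, hp⟩ := card_pos.1 (by rw [S.card_fib 0]; norm_num :
      0 < (univ.filter fun i => S.lab i = 0).card)
    replace hp := (Finset.mem_filter.1 hp).2
    have hm : S.xiAut 1 ∈ crossStab := h ▸ Subgroup.mem_top _
    have := (mem_crossStab_iff.1 hm) (eight p) (mem_stdCross_iff.2 ⟨p, Or.inl rfl⟩)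
    obtain ⟨q, hq⟩ := mem_stdCross_iff.1 this
    rw [act_xiAut S 1 (isLeech_eight p)] at hq
    have hsum : S.fsum (eight p) 0 = 8 := by
      simp [Sextet.fsum, eight, Finset.sum_pi_single', hp]
    have h4 : S.xiFun 1 (eight p) p = 4 := by
      unfold Sextet.xiFun
      rw [hp, if_neg (by decide), hsum]
      simp [eight]
    rcases hq with e | e <;> rw [e] at h4 <;> by_cases a : p = q <;>
      simp [eight, a] at h4
  · obtain ⟨g, hg, hgc⟩ := SetLike.exists_of_lt hlt
    rw [mem_crossStab_iff] at hgc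
    push Not at hgc
    obtain ⟨y, hy, hgy⟩ := hgc
    have hx : act g y ∈ blockVecs H := ⟨g, hg, y, hy, rfl⟩
    rw [eq_top_iff, ← gens_eq_top]
    refine (Subgroup.closure_le _).2 ?_
    rintro k ((⟨c, hc, rfl⟩ | ⟨σ, hσ, rfl⟩) | ⟨S, n, rfl⟩)
    · exact hlt.le (signAut_mem_crossStab c hc)
    · exact hlt.le (permAut_mem_crossStab σ hσ)
    · exact xiAut_mem_of_reach hlt.le hx hgy S n

end Cfsg.Agent.H14
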