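import Cfsg.Agent.H14.LeechIndex
import Cfsg.Agent.H14.CodeGen

/-! The lattice is generated by its vectors of squared length 32. -/

namespace Cfsg.Agent.H14

open Finset

/-- The subgroup generated by the minimal vectors. -/
def minSpan : AddSubgroup V :=
  AddSubgroup.closure {x | x ∈ leechLattice ∧ sqNorm x = 32}

theorem mem_minSpan {x : V} (hx : IsLeech x) (hn : sqNorm x = 32) : x ∈ minSpan :=
  AddSubgroup.subset_closure ⟨mem_leechLattice_iff.2 hx, hn⟩

theorem diff_four_mem {p q : GolayPt} (h : p ≠ q) :
    (fun i => if i = p then (4 : ℤ) else if i = q then -4 else 0) ∈ minSpan := by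
  refine mem_minSpan (four_add_four_mem p q h) ?_
  unfold sqNorm
  rw [← sum_subset (subset_univ ({p, q} : Finset GolayPt))]
  · rw [sum_pair h]; simp [Ne.symm h]
  · intro i _ hi
    simp only [Finset.mem_insert, Finset.mem_singleton, not_or] at hi
    simp [hi.1, hi.2]

theorem eight_mem (p : GolayPt) : eight p ∈ minSpan := by
  obtain ⟨q, -, hq, -, -⟩ := exists_pair_univ {p} (by simp)
  rw [Finset.mem_singleton] at hq
  have h := add_mem (mem_minSpan (isLeech_pairVec (Ne.symm hq)) (sqNorm_pairVec (Ne.symm hq)))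
    (diff_four_mem (Ne.symm hq))
  convert h using 1
  ext i
  by_cases a : i = p <;> by_cases b : i = q <;> simp_all [eight, pairVec]

/-- Lattice vectors divisible by four are in the span. -/
theorem four_dvd_mem {x : V} (hx : IsLeech x) (h4 : ∀ i, x i % 4 = 0) : x ∈ minSpan := by
  obtain ⟨hm, h8⟩ := isLeech_iff_codeLattice.1 hx
  have hz : ∀ i, x i = 4 * (x i / 4) := fun i => by have := h4 i; omega
  have hsum : ∑ i, x i = 4 * ∑ i, x i / 4 := by
    rw [mul_sum]; exact sum_congr rfl fun i _ => hz i
  have := h4 oo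
  obtain ⟨k, hk⟩ : (2 : ℤ) ∣ ∑ i, x i / 4 := by omega
  have hx' : x = (∑ i ∈ univ.erase oo, (x i / 4) •
      (fun j => if j = i then (4 : ℤ) else if j = oo then -4 else 0)) + k • eight oo := by
    ext j
    simp only [Pi.add_apply, Finset.sum_apply, Pi.smul_apply, smul_eq_mul]
    by_cases hj : j = oo
    · subst hj
      rw [sum_congr rfl (g := fun i => -4 * (x i / 4)) fun i hi => by
        rw [if_neg (Ne.symm (mem_erase.1 hi).1)]; simp; ring, ← mul_sum]
      have h5 : x oo / 4 + ∑ i ∈ univ.erase oo, x i / 4 = ∑ i, x i / 4 :=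
        add_sum_erase univ (fun i => x i / 4) (mem_univ oo)
      have h6 : eight oo oo = 8 := by simp [eight]
      have := hz oo
      rw [h6]; linarith
    · rw [Finset.sum_eq_single j (fun i _ hi => by rw [if_neg (Ne.symm hi), if_neg hj]; simp)
        (fun h => absurd (mem_erase.2 ⟨hj, mem_univ _⟩) h)]
      simp [eight, hj]
      have := hz j
      linarith
  rw [hx']
  exact add_mem (sum_mem fun i hi => AddSubgroup.zsmul_mem _ (diff_four_mem (mem_erase.1 hi).1) _)
    (AddSubgroup.zsmul_mem _ (eight_mem oo) _)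

theorem twice_add_mem {c d : GolayPt → ZMod 2} (hc : c ∈ golayCode) (hd : d ∈ golayCode)
    (h1 : twice c ∈ minSpan) (h2 : twice d ∈ minSpan) : twice (c + d) ∈ minSpan := by
  have hz : ∀ a b : ZMod 2, (2 * ((a + b).val : ℤ) - (2 * (a.val : ℤ) + 2 * (b.val : ℤ))) % 4 = 0 := by
    decide
  have h : twice (c + d) - (twice c + twice d) ∈ minSpan :=
    four_dvd_mem ((isLeech_twice (add_mem hc hd)).sub ((isLeech_twice hc).add (isLeech_twice hd)))
      fun i => hz (c i) (d i)
  simpa using add_mem h (add_mem h1 h2)

/-- Code words whose doubles are in the span. -/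
def spanned : AddSubgroup (GolayPt → ZMod 2) where
  carrier := {c | c ∈ golayCode ∧ twice c ∈ minSpan}
  zero_mem' := by
    refine ⟨zero_mem _, ?_⟩
    rw [show twice 0 = 0 by ext i; simp [twice]]
    exact zero_mem _
  add_mem' := fun h h' => ⟨add_mem h.1 h'.1, twice_add_mem h.1 h'.1 h.2 h'.2⟩
  neg_mem' := fun {c} h => by
    have : -c = c := by ext i; simp [ZMod.neg_eq_self_mod_two]
    rw [this]; exact h

theorem octad_spanned {O : Finset GolayPt} (hO : O ∈ octads) : ind O ∈ spanned := by
  refine ⟨octad_ind_mem hO, mem_minSpan (isLeech_twice (octad_ind_mem hO)) ?_⟩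
  have : ∀ i, twice (ind O) i ^ 2 = if i ∈ O then 4 else 0 := fun i => by
    by_cases h : i ∈ O <;> simp [twice, h, ZMod.val_one]
  rw [sqNorm, sum_congr rfl fun i _ => this i, sum_ite_mem, univ_inter, sum_const, octad_card hO]
  norm_num

theorem code_spanned {c : GolayPt → ZMod 2} (hc : c ∈ golayCode) : c ∈ spanned :=
  code_mem_of_octads spanned (fun _ hO => octad_spanned hO) hc

/-- The lattice is generated by its minimal vectors. -/
theorem minSpan_eq : minSpan = leechLattice := by
  refine le_antisymm ((AddSubgroup.closure_le _).2 fun x hx => hx.1) fun x hx => ?_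
  replace hx := mem_leechLattice_iff.1 hx
  have heven : ∀ y, IsLeech y → (∀ i, y i % 2 = 0) → y ∈ minSpan := by
    intro y hy he
    have hc := par_half_mem hy he
    have h4 : ∀ i, (y - twice (par fun i => y i / 2)) i % 4 = 0 := fun i => by
      have h2 := intCast_val ((y i / 2 : ℤ) : ZMod 2)
      rw [ZMod.intCast_eq_intCast_iff'] at h2
      simp only [Pi.sub_apply, twice, par_apply]
      have := ZMod.val_lt ((y i / 2 : ℤ) : ZMod 2)
      have := he i
      omega
    simpa using add_mem (four_dvd_mem (hy.sub (isLeech_twice hc)) h4) (code_spanned hc).2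
  rcases parity_all hx with h | h
  · exact heven x hx h
  · have ho : oddVec ∈ minSpan := mem_minSpan isLeech_oddVec (by decide)
    have := heven (x - oddVec) (hx.sub isLeech_oddVec) fun i => by
      have := h i
      simp only [Pi.sub_apply, oddVec]
      split <;> omega
    simpa using add_mem this ho

end Cfsg.Agent.H14
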