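import Cfsg.Agent.H14.Co1Simple
import Cfsg.Agent.H14.LeechModTwo
import Cfsg.Agent.H14.LeechSpan
import Cfsg.Agent.H14.LeechPairs
import Cfsg.Agent.H14.LeechCensus

/-! The Leech lattice modulo twice itself as a module for its automorphism group. -/

set_option autoImplicit false

namespace Cfsg.Agent.H14

open Finset

theorem isLeech_vecV' : IsLeech Spor.vecV := isLeech_of_mem_leechSet Spor.vecV_mem_leechSet

/-- Vectors of squared length 64 have congruent images. -/
theorem exists_congr64 {v w : V} (hv : IsLeech v) (hnv : sqNorm v = 64) (hw : IsLeech w)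
    (hnw : sqNorm w = 64) : ∃ g : Co0, ∃ z, IsLeech z ∧ act g v - w = 2 • z := by
  obtain ⟨g, -, hg⟩ := exists_act_cross hv hnv
  obtain ⟨h, -, hh⟩ := exists_act_cross hw hnw
  refine ⟨h⁻¹ * g, ?_⟩
  have hmem : act g v ∈ act h '' cross w := by
    rw [hh, ← hg]; exact Set.mem_image_of_mem _ (mem_cross_self hv)
  obtain ⟨y, hy, e⟩ := hmem
  obtain ⟨-, -, z, hz, ez⟩ := mem_cross_iff.1 hy
  refine ⟨-z, hz.neg, ?_⟩
  rw [mul_act, ← e, inv_act_act, smul_neg, ← ez]
  abel

/-- An automorphism trivial modulo twice the lattice is central. -/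
theorem mem_center_of_congr {g : Co0}
    (h : ∀ x, IsLeech x → ∃ z, IsLeech z ∧ act g x - x = 2 • z) : g ∈ Subgroup.center Co0 := by
  refine mem_center_of_conj fun k => mem_crossStab_iff.2 fun y hy => ?_
  have hyL := isLeech_stdCross hy
  have hx := isLeech_act k⁻¹ hyL
  obtain ⟨z, hz, e⟩ := h _ hx
  have hin : act g (act k⁻¹ y) ∈ cross (act k⁻¹ y) :=
    mem_cross_iff.2 ⟨isLeech_act g hx, sqNorm_act g hx, -z, hz.neg, by
      rw [smul_neg, ← e]; abel⟩
  have hcr : cross y = stdCross := by
    obtain ⟨p, hp⟩ := mem_stdCross_iff.1 hy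
    rcases hp with rfl | rfl
    · exact cross_eight p
    · rw [← act_negOne (isLeech_eight p), cross_act negOne (isLeech_eight p), cross_eight]
      exact signAut_mem_crossStab 1 one_mem_golayCode
  rw [← hcr, mul_act, mul_act]
  have h2 := Set.mem_image_of_mem (act k) hin
  rwa [← cross_act k hx, act_inv_act] at h2

theorem sub_mem_of_congr {M : AddSubgroup V} (h2 : ∀ z, IsLeech z → 2 • z ∈ M) {x y : V}
    (hx : x ∈ M) (h : ∃ z, IsLeech z ∧ x - y = 2 • z) : y ∈ M := by
  obtain ⟨z, hz, e⟩ := h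
  have := sub_mem hx (h2 z hz)
  rwa [← e, sub_sub_cancel] at this

/-- An invariant subgroup not inside twice the lattice contains the minimal vectors. -/
theorem eq_leech_of_invariant {M : AddSubgroup V} (hle : ∀ x ∈ M, IsLeech x)
    (h2 : ∀ z, IsLeech z → 2 • z ∈ M) (hinv : ∀ g : Co0, ∀ x ∈ M, act g x ∈ M)
    {x : V} (hx : x ∈ M) (hne : ∀ z, IsLeech z → x ≠ 2 • z) : M = leechLattice := by
  obtain ⟨y, hy, hyn, hxy⟩ := exists_short_rep (hle x hx)
  have hyM := sub_mem_of_congr h2 hx hxy
  have hy0 : y ≠ 0 := by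
    rintro rfl
    obtain ⟨z, hz, e⟩ := hxy
    exact hne z hz (by simpa using e)
  have h16 := IsLeech.sixteen_dvd_sqNorm hy
  have h32 := IsLeech.min_sqNorm hy hy0
  have horb : ∀ {w : V}, IsLeech w → (∀ g : Co0, act g y = w → w ∈ M) :=
    fun _ g e => e ▸ hinv g y hyM
  have hmin : v0 ∈ M := by
    rcases (show sqNorm y = 32 ∨ sqNorm y = 48 ∨ sqNorm y = 64 by omega) with h | h | h
    · obtain ⟨g, -, e⟩ := exists_act_min hy h isLeech_v0 sqNorm_v0
      exact horb isLeech_v0 g e
    · have hs : IsLeech (Spor.vecV + v0) := isLeech_vecV'.add isLeech_v0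
      obtain ⟨g, -, e⟩ := exists_act48 hy h isLeech_vecV' (by decide +kernel)
      obtain ⟨g', -, e'⟩ := exists_act48 hy h hs (by decide +kernel)
      have := sub_mem (horb hs g' e') (horb isLeech_vecV' g e)
      rwa [add_sub_cancel_left] at this
    · let a : V := pairVec oo (some 1) + pairVec (some 2) (some 3)
      let b : V := pairVec ll (some 1) + pairVec (some 2) (some 3)
      have ha : IsLeech a := (isLeech_pairVec (by decide)).add (isLeech_pairVec (by decide))
      have hb : IsLeech b := (isLeech_pairVec (by decide)).add (isLeech_pairVec (by decide))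
      obtain ⟨g, z, hz, e⟩ := exists_congr64 hy h ha (by decide +kernel)
      obtain ⟨g', z', hz', e'⟩ := exists_congr64 hy h hb (by decide +kernel)
      have h1 := sub_mem_of_congr h2 (hinv g y hyM) ⟨z, hz, e⟩
      have h3 := sub_mem_of_congr h2 (hinv g' y hyM) ⟨z', hz', e'⟩
      have := sub_mem h1 h3
      rwa [show a - b = v0 by funext p; revert p; decide +kernel] at this
  refine le_antisymm (fun z hz => mem_leechLattice_iff.2 (hle z hz)) ?_
  rw [← minSpan_eq]
  refine (AddSubgroup.closure_le M).2 ?_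
  rintro w ⟨hw, hwn⟩
  obtain ⟨g, -, e⟩ := exists_act_min isLeech_v0 sqNorm_v0 (mem_leechLattice_iff.1 hw) hwn
  exact e ▸ hinv g v0 hmin

/-- An invariant nonzero quadratic form modulo two is the squared length over 16. -/
theorem quad_unique (Q : V → ZMod 2) (hcoset : ∀ v w, IsLeech v → IsLeech w → Q (v + (w + w)) = Q v)
    (hquad : ∀ u v w, IsLeech u → IsLeech v → IsLeech w →
      Q (u + v + w) + Q u + Q v + Q w = Q (u + v) + Q (u + w) + Q (v + w))
    (hinv : ∀ g v, IsLeech v → Q (act g v) = Q v) (hne : ∃ v, IsLeech v ∧ Q v ≠ 0)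
    {v : V} (hv : IsLeech v) : Q v = ((sqNorm v / 16 : ℤ) : ZMod 2) := by
  have h0 : Q 0 = 0 := by
    have h := hquad 0 0 0 isLeech_zero isLeech_zero isLeech_zero
    simp only [add_zero] at h
    exact (by decide : ∀ z : ZMod 2, z + z + z + z = z + z + z → z = 0) _ h
  have c32 : ∀ x, IsLeech x → sqNorm x = 32 → Q x = Q v0 := fun x hx hn => by
    obtain ⟨g, -, e⟩ := exists_act_min hx hn isLeech_v0 sqNorm_v0
    rw [← e, hinv g x hx]
  have c48 : ∀ x, IsLeech x → sqNorm x = 48 → Q x = Q Spor.vecV := fun x hx hn => by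
    obtain ⟨g, -, e⟩ := exists_act48 hx hn isLeech_vecV' (by decide +kernel)
    rw [← e, hinv g x hx]
  have c64 : ∀ x, IsLeech x → sqNorm x = 64 → Q x = Q (eight oo) := fun x hx hn => by
    obtain ⟨g, z, hz, e⟩ := exists_congr64 hx hn (isLeech_eight oo) (sqNorm_eight oo)
    rw [← hinv g x hx, show act g x = eight oo + (z + z) by rw [← two_nsmul, ← e]; abel,
      hcoset _ _ (isLeech_eight oo) hz]
  let s : V := pairVec (some 1) oo - eight oo
  have hs : IsLeech s := (isLeech_pairVec (by decide)).sub (isLeech_eight oo)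
  have hz : IsLeech (s - oddVec) := hs.sub isLeech_oddVec
  have hxy := isLeech_w0.add isLeech_oddVec
  have hxz := isLeech_w0.add hz
  have ha : Q v0 = 0 := by
    have h := hquad w0 oddVec (s - oddVec) isLeech_w0 isLeech_oddVec hz
    rw [c32 _ isLeech_w0 sqNorm_w0, c32 _ isLeech_oddVec (by decide +kernel),
      c32 _ hz (by decide +kernel), c48 _ hxy (by decide +kernel), c48 _ hxz (by decide +kernel),
      c32 _ (isLeech_oddVec.add hz) (by decide +kernel),
      c32 _ (hxy.add hz) (by decide +kernel)] at h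
    exact (by decide : ∀ a b : ZMod 2, a + a + a + a = b + b + a → a = 0) _ _ h
  let d1 : V := pairVec (some 1) (some 2) - eight (some 2)
  let d2 : V := pairVec (some 2) (some 3) - eight (some 3)
  have hd1 : IsLeech d1 := (isLeech_pairVec (by decide)).sub (isLeech_eight _)
  have hd2 : IsLeech d2 := (isLeech_pairVec (by decide)).sub (isLeech_eight _)
  have hc : Q (eight oo) = 0 := by
    have h := hquad w0 d1 d2 isLeech_w0 hd1 hd2
    rw [c32 _ isLeech_w0 sqNorm_w0, c32 _ hd1 (by decide +kernel), c32 _ hd2 (by decide +kernel),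
      c64 _ (isLeech_w0.add hd1) (by decide +kernel), c64 _ (isLeech_w0.add hd2) (by decide +kernel),
      c32 _ (hd1.add hd2) (by decide +kernel),
      c64 _ ((isLeech_w0.add hd1).add hd2) (by decide +kernel), ha] at h
    exact (by decide : ∀ c : ZMod 2, c + 0 + 0 + 0 = c + c + 0 → c = 0) _ h
  have hred : ∀ x, IsLeech x → ∃ y, IsLeech y ∧ sqNorm y ≤ 64 ∧ Q x = Q y ∧
      (2 : ℤ) ∣ sqNorm x / 16 - sqNorm y / 16 := by
    intro x hx
    obtain ⟨y, hy, hn, z, hz, e⟩ := exists_short_rep hx
    refine ⟨y, hy, hn, ?_, ?_⟩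
    · rw [show x = y + (z + z) by rw [← two_nsmul, ← e]; abel, hcoset y z hy hz]
    · have e' : x = y + 2 • z := by rw [← e]; abel
      have h1 : sqNorm x = sqNorm y + 4 * dotInt y z + 4 * sqNorm z := by
        rw [e', sqNorm, sqNorm, sqNorm, dotInt, mul_sum, mul_sum, ← sum_add_distrib,
          ← sum_add_distrib]
        exact sum_congr rfl fun i _ => by simp; ring
      have := IsLeech.eight_dvd_dotInt hy hz
      have := IsLeech.sixteen_dvd_sqNorm hy
      have := IsLeech.sixteen_dvd_sqNorm hz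
      omega
  have hb : Q Spor.vecV = 1 := by
    obtain ⟨x, hx, hxne⟩ := hne
    obtain ⟨y, hy, hn, e, -⟩ := hred x hx
    rw [e] at hxne
    by_cases hy0 : y = 0
    · exact absurd (hy0 ▸ h0) hxne
    have := IsLeech.sixteen_dvd_sqNorm hy
    have := IsLeech.min_sqNorm hy hy0
    rcases (show sqNorm y = 32 ∨ sqNorm y = 48 ∨ sqNorm y = 64 by omega) with h | h | h
    · exact absurd ((c32 y hy h).trans ha) hxne
    · rw [c48 y hy h] at hxne
      exact (by decide : ∀ b : ZMod 2, b ≠ 0 → b = 1) _ hxne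
    · exact absurd ((c64 y hy h).trans hc) hxne
  obtain ⟨y, hy, hn, e, hdvd⟩ := hred v hv
  have hcast : ((sqNorm v / 16 : ℤ) : ZMod 2) = ((sqNorm y / 16 : ℤ) : ZMod 2) := by
    rw [ZMod.intCast_eq_intCast_iff']; push_cast; omega
  rw [e, hcast]
  by_cases hy0 : y = 0
  · subst hy0; rw [h0]; simp [sqNorm]
  have := IsLeech.sixteen_dvd_sqNorm hy
  have := IsLeech.min_sqNorm hy hy0
  rcases (show sqNorm y = 32 ∨ sqNorm y = 48 ∨ sqNorm y = 64 by omega) with h | h | h
  · rw [c32 y hy h, ha, h]; decide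
  · rw [c48 y hy h, hb, h]; decide
  · rw [c64 y hy h, hc, h]; decide

/-- An element of `Co0` squaring to the negation. -/
theorem exists_sq_negOne : ∃ g : Co0, g * g = negOne := by
  have hσ := projInv_mem
  let c : GolayPt → ZMod 2 := qrWord 0
  have hcg : c ∈ golayCode := Submodule.subset_span (Or.inl ⟨0, rfl⟩)
  refine ⟨monoAut projInv hσ c hcg, act_eq_of_forall fun x hx => ?_⟩
  have hy : IsLeech (signFun c (permFun projInv x)) := (hx.permFun hσ).signFun hcg
  rw [mul_act, act_monoAut hσ hcg hx, act_monoAut hσ hcg hy, act_negOne hx]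
  have key : ∀ p : GolayPt, projInv.symm (projInv.symm p) = p ∧ c p ≠ c (projInv.symm p) := by
    decide +kernel
  funext p
  obtain ⟨k1, k2⟩ := key p
  simp only [signFun, permFun, k1, Pi.neg_apply]
  revert k2
  generalize c p = a
  generalize c (projInv.symm p) = b
  intro k2
  rcases (by decide : ∀ z : ZMod 2, z = 0 ∨ z = 1) a with rfl | rfl <;>
    rcases (by decide : ∀ z : ZMod 2, z = 0 ∨ z = 1) b with rfl | rfl <;> simp_all

/-- The negation has no complement. -/
theorem not_complement_negOne (K : Subgroup Co0) :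
    ¬ (Subgroup.zpowers negOne).IsComplement' K := by
  intro h
  have hind : K.index = 2 := by
    rw [h.index_eq_card, Nat.card_zpowers]
    exact orderOf_eq_prime (hp := ⟨Nat.prime_two⟩)
      (act_eq_of_forall fun x hx => by
        rw [pow_two, mul_act, act_negOne hx, act_negOne hx.neg, neg_neg, one_act]) negOne_ne_one
  obtain ⟨g, hg⟩ := exists_sq_negOne
  have hK : negOne ∈ K := hg ▸ Subgroup.mul_self_mem_of_index_two hind g
  have := h.disjoint.le_bot ⟨Subgroup.mem_zpowers negOne, hK⟩
  exact negOne_ne_one (Subgroup.mem_bot.1 this)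

end Cfsg.Agent.H14
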